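import Groth.Agent.UnipCount19.Rep
import Groth.Agent.LangGen19.Main
import Groth.Agent.Stk19b.Count.GalPts
import Groth.Agent.Stk19b.Count.Twist
import Groth.Agent.HopfQuot.SchemeQuot
import Groth.Agent.HopfQuot.UnipotentBaseChange
import Groth.Agent.AlgGrpLib.NoTorusScheme
import Groth.Agent.AbVarLib.GeomIntegralSmooth
import Groth.Agent.SGA3cLib.GeomConn
import Groth.Agent.SGA3cLib.MonoClosed
import Groth.Agent.Synt15.Descent
import Groth.Prelude.Def_CoactBr2
import Groth.Prelude.Def_GalTw2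

/-! Twisted Lang map and twisted fixed points on a normal connected unipotent subgroup. -/

set_option autoImplicit false
set_option linter.style.haveILetI false
set_option linter.unusedSectionVars false
set_option maxHeartbeats 1000000
set_option backward.isDefEq.respectTransparency.types false
set_option backward.isDefEq.respectTransparency false

universe u

open CategoryTheory Limits MonoidalCategory CartesianMonoidalCategory MonObj GrpObj AlgebraicGeometry
open scoped TensorProduct
open WithConv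
open Groth.Agent.HopfQuot

noncomputable section

namespace Groth.Agent.UnipCount19

variable {k : Type u} [Field k] [Finite k] (kb : Type u) [Field kb] [Algebra k kb] [IsAlgClosed kb]
  [Algebra.IsAlgebraic k kb] {G U : Over (Spec (CommRingCat.of k))} [GrpObj G] [GrpObj U]
  [Smooth G.hom] [IsAffineHom G.hom] [Smooth U.hom] [IsAffineHom U.hom] [ConnectedSpace U.left]
  (iU : U ⟶ G) [IsMonHom iU] [Mono iU]

/-- Twisted Lang surjectivity and the number of twisted fixed points. -/
theorem twisted_unipotent (hUn : AlgGrp.IsNormalHom iU) (hUu : Red.HasNoSubtorus kb (GalTw.bcK kb U))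
    (d : ℕ) (hd : topologicalKrullDim ↥U.left = (d : WithBot ℕ∞)) (c : SGA7.pt (K := k) kb ⟶ G) :
    (∀ v : SGA7.pt (K := k) kb ⟶ U, ∃ u : SGA7.pt (K := k) kb ⟶ U,
      Stk19b.Count.twConj k kb (u ≫ iU) c = (v ≫ iU) * c) ∧
    Nat.card {u : SGA7.pt (K := k) kb ⟶ U // Stk19b.Count.twConj k kb (u ≫ iU) c = c} = Nat.card k ^ d := by
  classical
  letI := Fintype.ofFinite k
  obtain ⟨p, hchar⟩ := CharP.exists k
  obtain ⟨⟨e, he0⟩, hp, he⟩ := FiniteField.card k p
  haveI : Fact p.Prime := ⟨hp⟩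
  replace he : Nat.card k = p ^ e := by rw [Nat.card_eq_fintype_card]; exact he
  haveI : CharP kb p := charP_of_injective_algebraMap (algebraMap k kb).injective p
  let π₀ : kb ≃ₐ[k] kb := FiniteField.frobeniusAlgEquivOfAlgebraic k kb
  have hπ₀ : ∀ x : kb, π₀ x = x ^ Nat.card k := fun x => by rw [Nat.card_eq_fintype_card]; rfl
  have hfr : Stk19b.Count.frM k k kb = LangGen19.frk p e he (SGA7.pt (K := k) kb) := by
    apply Over.OverMorphism.ext
    refine (LangGen19.specMap_of_appTop (R := CommRingCat.of kb) _ _ (Nat.card k) (fun x => ?_) fun s => ?_).symm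
    · exact Stk19b.Count.frobHom_apply k kb x
    · rw [he]
      exact LangGen19.frQ_appTop p e (SGA7.pt (K := k) kb) s
  -- Hopf algebras
  haveI : IsAffine G.left := isAffine_of_isAffineHom G.hom
  haveI : IsAffine U.left := isAffine_of_isAffineHom U.hom
  haveI : QuasiCompact iU.left := by
    haveI : QuasiCompact (iU.left ≫ G.hom) := by rw [Over.w iU]; infer_instance
    exact QuasiCompact.of_comp iU.left G.hom
  haveI : IsClosedImmersion iU.left := SGA3cLib.isClosedImmersion_of_mono iU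
  obtain ⟨A, iA1, iA2, eG, heG, heG'⟩ := exists_spec (k := k) G
  obtain ⟨B, iB1, iB2, eU, heU, heU'⟩ := exists_spec (k := k) U
  haveI : IsIso eG.left := inferInstanceAs (IsIso ((Over.forget _).map eG))
  haveI : IsIso eU.left := inferInstanceAs (IsIso ((Over.forget _).map eU))
  haveI : IsIso (CategoryTheory.inv eG).left :=
    inferInstanceAs (IsIso ((Over.forget _).map (CategoryTheory.inv eG)))
  haveI : IsMonHom (CategoryTheory.inv eG) := inferInstanceAs (IsMonHom (asIso eG).inv)
  haveI : IsMonHom (CategoryTheory.inv eU) := inferInstanceAs (IsMonHom (asIso eU).inv)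
  obtain ⟨π, hπj⟩ := exists_specHom (k := k) (A := A) (B := B) (eU ≫ iU ≫ CategoryTheory.inv eG)
  haveI hci : IsClosedImmersion (Spec.map (CommRingCat.ofHom (π : A →+* B))) := by
    rw [← specHom_left, hπj, Over.comp_left, Over.comp_left]
    haveI h1 : IsClosedImmersion (CategoryTheory.inv eG).left := inferInstance
    haveI h2 : IsClosedImmersion (iU.left ≫ (CategoryTheory.inv eG).left) := inferInstance
    haveI h3 : IsClosedImmersion eU.left := inferInstance
    exact MorphismProperty.comp_mem @IsClosedImmersion _ _ h3 h2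
  have hπ : Function.Surjective π := by
    have h := Scheme.Hom.app_surjective (Spec.map (CommRingCat.ofHom (π : A →+* B))) ⊤ (isAffineOpen_top _)
    have e0 := Scheme.ΓSpecIso_inv_naturality (CommRingCat.ofHom (π : A →+* B))
    intro y
    obtain ⟨z, hz⟩ := h ((Scheme.ΓSpecIso (CommRingCat.of B)).inv y)
    obtain ⟨x, rfl⟩ := (ConcreteCategory.bijective_of_isIso (Scheme.ΓSpecIso (CommRingCat.of A)).inv).2 z
    refine ⟨x, (ConcreteCategory.bijective_of_isIso (Scheme.ΓSpecIso (CommRingCat.of B)).inv).1 ?_⟩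
    exact (congrArg (fun f => f.hom x) e0).trans hz
  haveI : Algebra.FiniteType k A := by
    haveI : LocallyOfFiniteType (spec (k := k) A).hom := by rw [← Over.w eG]; infer_instance
    exact RingHom.finiteType_algebraMap.1 ((HasRingHomProperty.Spec_iff (P := @LocallyOfFiniteType)
      (φ := CommRingCat.ofHom (algebraMap k A))).1 ‹LocallyOfFiniteType (spec (k := k) A).hom›)
  haveI : Algebra.FiniteType k B := by
    haveI : LocallyOfFiniteType (spec (k := k) B).hom := by rw [← Over.w eU]; infer_instance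
    exact RingHom.finiteType_algebraMap.1 ((HasRingHomProperty.Spec_iff (P := @LocallyOfFiniteType)
      (φ := CommRingCat.ofHom (algebraMap k B))).1 ‹LocallyOfFiniteType (spec (k := k) B).hom›)
  -- the base change to `kb`
  let s : Spec (CommRingCat.of kb) ⟶ Spec (CommRingCat.of k) := (SGA7.pt (K := k) kb).hom
  haveI : GeometricallyConnected U.hom := by
    have := SGA3cLib.geometricallyConnected_of_rational_point k U.hom (𝟙 U.left) η[U].left
      (Over.w η[U]) (by simp)
    rwa [Category.id_comp] at this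
  haveI : ConnectedSpace ↥(GalTw.bcK kb U).left :=
    GeometricallyConnected.geometrically_connectedSpace (f := U.hom) _ _ _ (IsPullback.of_hasPullback U.hom s)
  haveI : Smooth (GalTw.bcK kb U).hom := inferInstanceAs (Smooth (pullback.snd U.hom s))
  haveI : QuasiCompact (GalTw.bcK kb U).hom := inferInstanceAs (QuasiCompact (pullback.snd U.hom s))
  haveI : IsMonHom (CoactBr.bcIso k kb B).hom := CoactBr.bcIso_isMonHom k kb B
  haveI : IsMonHom (CoactBr.bcIso k kb B).inv := inferInstance
  haveI : IsMonHom ((Over.pullback s).map eU) := inferInstanceAs (IsMonHom ((Over.pullback s).map eU))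
  let eb : spec (k := kb) (kb ⊗[k] B) ⟶ GalTw.bcK kb U :=
    (CoactBr.bcIso k kb B).inv ≫ (Over.pullback s).map eU
  haveI : IsIso eb := inferInstanceAs (IsIso ((CoactBr.bcIso k kb B).inv ≫ (Over.pullback s).map eU))
  haveI : IsMonHom eb := inferInstanceAs (IsMonHom ((CoactBr.bcIso k kb B).inv ≫ (Over.pullback s).map eU))
  have hB : HopfRep.IsUnipotent k B :=
    (HopfQuot.isUnipotent_iff_baseChange (k := k) (K := kb) (A := B)).2
      (AlgGrpLib.NoTorus.isUnipotent_of_hasNoSubtorus hUu eb)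
  haveI : IsDomain (kb ⊗[k] B) := by
    haveI : IsIntegral (GalTw.bcK kb U).left := AbVarLib.isIntegral_of_smooth_connected (GalTw.bcK kb U).hom
    haveI : IsIso eb.left := inferInstanceAs (IsIso ((Over.forget _).map eb))
    haveI : Nonempty ↥(Spec (CommRingCat.of (kb ⊗[k] B))) :=
      ⟨(CategoryTheory.inv eb.left).base (Nonempty.some inferInstance)⟩
    exact (affine_isIntegral_iff (CommRingCat.of (kb ⊗[k] B))).1 (isIntegral_of_isOpenImmersion eb.left)
  have hdim : ringKrullDim (kb ⊗[k] B) = (d : WithBot ℕ∞) := by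
    rw [Synt15.ringKrullDim_tensor_field, ← PrimeSpectrum.topologicalKrullDim_eq_ringKrullDim, ← hd]
    exact IsHomeomorph.topologicalKrullDim_eq _ eU.left.homeomorph.isHomeomorph
  -- group data
  let evU : (SGA7.pt (K := k) kb ⟶ U) ≃ Pt k B kb :=
    { toFun := fun u => (ptSpec (k := k) (A := B) (T := kb)).symm (u ≫ CategoryTheory.inv eU)
      invFun := fun g => ptSpec (k := k) (A := B) (T := kb) g ≫ eU
      left_inv := fun u => by simp
      right_inv := fun g => by simp }
  let toA : (SGA7.pt (K := k) kb ⟶ G) →* Pt k A kb :=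
    MonoidHom.mk' (fun g => (ptSpec (k := k) (A := A) (T := kb)).symm (g ≫ CategoryTheory.inv eG))
      fun g g' => by rw [MonObj.mul_comp, map_mul]
  have toA_inj : Function.Injective toA := fun g g' h => by
    have := (ptSpec (k := k) (A := A) (T := kb)).symm.injective h
    rwa [cancel_mono] at this
  let j : (SGA7.pt (K := k) kb ⟶ U) →* Pt k A kb :=
    toA.comp (MonoidHom.mk' (fun u => u ≫ iU) fun a b => MonObj.mul_comp a b iU)
  have hj : ∀ u a, (j u).ofConv a = (evU u).ofConv (π a) := fun u a => by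
    have h : j u = toConv ((evU u).ofConv.comp (π : A →ₐ[k] B)) := by
      apply (ptSpec (k := k) (A := A) (T := kb)).injective
      rw [← ptSpec_comp, hπj]
      show ptSpec ((ptSpec (k := k) (A := A) (T := kb)).symm ((u ≫ iU) ≫ CategoryTheory.inv eG)) =
        ptSpec ((ptSpec (k := k) (A := B) (T := kb)).symm (u ≫ CategoryTheory.inv eU)) ≫ _
      simp
    rw [h]
    rfl
  have hFA : ∀ g : SGA7.pt (K := k) kb ⟶ G,
      toA (Stk19b.Count.frM k k kb ≫ g) = toConv ((π₀ : kb →ₐ[k] kb).comp (toA g).ofConv) := fun g => by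
    apply (ptSpec (k := k) (A := A) (T := kb)).injective
    show ptSpec ((ptSpec (k := k) (A := A) (T := kb)).symm _) = _
    rw [MulEquiv.apply_symm_apply]
    conv_lhs => rw [Category.assoc, ← (ptSpec (k := k) (A := A) (T := kb)).apply_symm_apply
      (g ≫ CategoryTheory.inv eG)]
    refine Over.OverMorphism.ext ?_
    show (Stk19b.Count.frM k k kb).left ≫ Spec.map _ = Spec.map _
    show Spec.map _ ≫ Spec.map _ = Spec.map _
    rw [← Spec.map_comp]
    congr 1
  have hiU : ∀ {T : Over (Spec (CommRingCat.of k))} (a b : T ⟶ U), a ≫ iU = b ≫ iU → a = b :=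
    fun a b h => (cancel_mono iU).1 h
  -- conjugation by `c`
  obtain ⟨α, hα⟩ : ∃ α : U ⊗ SGA7.pt (K := k) kb ⟶ U,
      (snd _ _ ≫ c)⁻¹ * (fst _ _ ≫ iU) * ((snd _ _ ≫ c)⁻¹)⁻¹ = α ≫ iU := hUn _ (snd _ _ ≫ c)⁻¹ (fst _ _)
  have hα' : ∀ {Z : Over (Spec (CommRingCat.of k))} (a : Z ⟶ U) (t : Z ⟶ SGA7.pt (K := k) kb),
      (lift a t ≫ α) ≫ iU = (t ≫ c)⁻¹ * (a ≫ iU) * (t ≫ c) := fun a t => by
    rw [Category.assoc, ← hα]
    simp [MonObj.comp_mul, GrpObj.comp_inv]
  have hαmul : ∀ {Z : Over (Spec (CommRingCat.of k))} (a b : Z ⟶ U) (t : Z ⟶ SGA7.pt (K := k) kb),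
      lift (a * b) t ≫ α = (lift a t ≫ α) * (lift b t ≫ α) := fun a b t => hiU _ _ (by
    rw [MonObj.mul_comp, hα', hα', hα', MonObj.mul_comp]
    group)
  let θ : (SGA7.pt (K := k) kb ⟶ U) →* (SGA7.pt (K := k) kb ⟶ U) :=
    MonoidHom.mk' (fun u => lift (Stk19b.Count.frM k k kb ≫ u) (𝟙 _) ≫ α) fun u v => by
      rw [MonObj.comp_mul, hαmul]
  have hθi : ∀ u, θ u ≫ iU = c⁻¹ * (Stk19b.Count.frM k k kb ≫ u ≫ iU) * c := fun u => by
    show (lift _ _ ≫ α) ≫ iU = _
    rw [hα', Category.id_comp, Category.assoc]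
  have hθs : Function.Surjective θ := fun w => by
    obtain ⟨v, hv⟩ := hUn _ c w
    obtain ⟨u, hu⟩ : ∃ u : SGA7.Pts kb U, π₀ • u = (v : SGA7.Pts kb U) := ⟨π₀⁻¹ • (v : SGA7.Pts kb U), smul_inv_smul _ _⟩
    refine ⟨u, hiU _ _ ?_⟩
    have hu' : Stk19b.Count.frM k k kb ≫ u = v := (Stk19b.Count.frobenius_smul π₀ hπ₀ u).symm.trans hu
    rw [hθi, ← Category.assoc, hu', ← hv]
    group
  have hlang : ∀ a : SGA7.pt (K := k) kb ⟶ U, ∃ g, θ g * g⁻¹ = a := fun a => by
    obtain ⟨g, hg⟩ := LangGen19.exists_mul_inv_theta_eq p e he (by omega) kb _ α hαmul a⁻¹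
    refine ⟨g, ?_⟩
    rw [← hfr] at hg
    have h2 := congrArg (·⁻¹) hg
    simp only [_root_.mul_inv_rev, _root_.inv_inv] at h2
    exact h2
  have hfinG : ∀ a : SGA7.pt (K := k) kb ⟶ G, Finite {g : SGA7.pt (K := k) kb ⟶ G // Stk19b.Count.twConj k kb g a = a} := by
    intro a
    obtain ⟨n, hn0, -, hn⟩ := Stk19b.Count.exists_norm_one k k kb a
    have h1 : Stk19b.Count.normM k k kb a n = 1 := by simpa using hn 1
    haveI := Stk19b.Count.finite_fixed (k' := k) (L := kb) (Y := G) n hn0
    exact Finite.of_injective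
      (fun g : {g : SGA7.pt (K := k) kb ⟶ G // Stk19b.Count.twConj k kb g a = a} =>
        (⟨g.1, by rw [Stk19b.Count.powM_conj a g.1 g.2, h1, inv_one, _root_.one_mul, _root_.mul_one]⟩ :
          {y : SGA7.pt (K := k) kb ⟶ G // Stk19b.Count.powM (Stk19b.Count.frM k k kb) n ≫ y = y}))
      fun g g' e => Subtype.ext (congrArg Subtype.val e :)
  have hfin : ∀ a : SGA7.pt (K := k) kb ⟶ U, Finite {g : SGA7.pt (K := k) kb ⟶ U // θ g * a * g⁻¹ = a} := fun a => by
    haveI := hfinG (c * (a ≫ iU))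
    refine Finite.of_injective
      (fun g : {g : SGA7.pt (K := k) kb ⟶ U // θ g * a * g⁻¹ = a} =>
        (⟨g.1 ≫ iU, ?_⟩ : {g : SGA7.pt (K := k) kb ⟶ G // Stk19b.Count.twConj k kb g (c * (a ≫ iU)) = c * (a ≫ iU)}))
      fun g g' e => Subtype.ext (hiU _ _ (congrArg Subtype.val e :))
    have h := congrArg (· ≫ iU) g.2
    simp only [MonObj.mul_comp, GrpObj.inv_comp, hθi] at h
    rw [Stk19b.Count.twConj]
    conv_rhs => rw [← h]
    group
  refine ⟨fun v => ?_, ?_⟩
  · obtain ⟨v', hv'⟩ := hUn _ c⁻¹ v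
    obtain ⟨u, hu⟩ := hlang v'
    refine ⟨u, ?_⟩
    have h := congrArg (· ≫ iU) hu
    simp only [MonObj.mul_comp, GrpObj.inv_comp, hθi, ← hv'] at h
    rw [Stk19b.Count.twConj]
    calc (Stk19b.Count.frM k k kb ≫ u ≫ iU) * c * (u ≫ iU)⁻¹
        = c * (c⁻¹ * (Stk19b.Count.frM k k kb ≫ u ≫ iU) * c * (u ≫ iU)⁻¹) := by group
      _ = (v ≫ iU) * c := by rw [h]; group
  · rw [he, ← card_twisted_unipotent (p := p) (e := e) (he ▸ Finite.one_lt_card) (π₀ : kb →ₐ[k] kb)
      (fun x => by rw [← he]; exact hπ₀ x) π hπ hB d hdim evU j hj θ hθs (toA c) (toA c⁻¹)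
      (by rw [← map_mul, mul_inv_cancel, map_one])
      (fun u => by
        show toA (θ u ≫ iU) = _
        rw [hθi, map_mul, map_mul, hFA]
        rfl)
      hfin hlang]
    refine Nat.card_congr (Equiv.subtypeEquivRight fun u => ?_)
    rw [Stk19b.Count.twConj, ← cancel_mono iU, hθi]
    constructor <;> intro h
    · rw [mul_inv_eq_iff_eq_mul] at h
      rw [_root_.mul_assoc, h, inv_mul_cancel_left]
    · conv_lhs => arg 2; rw [← h]
      group

end Groth.Agent.UnipCount19
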