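import Groth.Agent.UnipCount19.Closed
import Groth.Agent.UnipCount19.Geom
import Groth.Agent.S7520
import Groth.Agent.CohDer1.AntiAffSmooth
import Groth.Agent.AlgGrpLib.SubGrpMono
import Groth.Agent.AlgGrpLib.CosetOrbit
import Groth.Agent.HomogDim26.Main
import Groth.Agent.AbSchLib.SmoothReduced
import Groth.Agent.Props12.KerReduced

/-! The neutral reduced part of the stabiliser of a geometric point. -/

set_option autoImplicit false
set_option linter.style.haveILetI false
set_option linter.unusedSectionVars false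
set_option maxHeartbeats 1000000
set_option synthInstance.maxHeartbeats 80000
set_option backward.isDefEq.respectTransparency.types false
set_option backward.isDefEq.respectTransparency false

universe u

open CategoryTheory Limits MonoidalCategory CartesianMonoidalCategory MonObj GrpObj AlgebraicGeometry
open scoped TensorProduct
open WithConv
open Groth.Agent.HopfQuot

noncomputable section

namespace Groth.Agent.UnipCount19

section Sections

variable {K : Type u} [Field K] [IsAlgClosed K]

/-- A section of a scheme locally of finite type over an algebraically closed field is a closed immersion. -/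
theorem isClosedImmersion_section {X : Scheme.{u}} (f : X ⟶ Spec (CommRingCat.of K)) [LocallyOfFiniteType f]
    (s : Spec (CommRingCat.of K) ⟶ X) (hs : s ≫ f = 𝟙 _) : IsClosedImmersion s := by
  haveI : IsImmersion (s ≫ f) := by rw [hs]; infer_instance
  haveI : IsImmersion s := IsImmersion.of_comp s f
  refine IsClosedImmersion.of_isPreimmersion s ?_
  have h : Set.range s = {s (IsLocalRing.closedPoint K)} := by
    haveI : Subsingleton ↥(Spec (CommRingCat.of K)) := inferInstanceAs (Subsingleton (PrimeSpectrum K))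
    ext y
    constructor
    · rintro ⟨z, rfl⟩
      rw [Subsingleton.elim z (IsLocalRing.closedPoint K)]
      rfl
    · rintro rfl
      exact ⟨_, rfl⟩
  rw [h]
  exact (pointEquivClosedPoint f ⟨s, hs⟩).2

/-- A closed immersion onto the whole space, from a reduced scheme. -/
theorem exists_reduced_neutral {S : Over (Spec (CommRingCat.of K))} [GrpObj S] [LocallyOfFiniteType S.hom] :
    ∃ (U : Over (Spec (CommRingCat.of K))) (_ : GrpObj U) (i : U ⟶ S), IsMonHom i ∧ Smooth U.hom ∧
      ConnectedSpace U.left ∧ IsClosedImmersion i.left ∧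
      Set.range ⇑i.left = connectedComponent (η[S].left (IsLocalRing.closedPoint K)) := by
  obtain ⟨G₀, iG, incl, hincl, hci, -, hrange, -, -⟩ := Groth.Agent.S7520.result K S
  haveI := hincl
  haveI := hci
  haveI : LocallyOfFiniteType G₀.hom := by rw [← Over.w incl]; infer_instance
  let I := Scheme.IdealSheafData.vanishingIdeal (⊤ : TopologicalSpace.Closeds G₀.left)
  haveI : IsReduced I.subscheme := Props12.isReduced_subscheme_vanishingIdeal _
  haveI : Surjective I.subschemeι := ⟨fun y => by
    have h : Set.range ⇑I.subschemeι = Set.univ :=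
      (Scheme.IdealSheafData.range_subschemeι I).trans (Scheme.IdealSheafData.coe_support_vanishingIdeal _)
    exact h.ge (Set.mem_univ y)⟩
  let U : Over (Spec (CommRingCat.of K)) := Over.mk (I.subschemeι ≫ G₀.hom)
  let i₀ : U ⟶ G₀ := Over.homMk I.subschemeι rfl
  haveI : IsClosedImmersion i₀.left := inferInstanceAs (IsClosedImmersion I.subschemeι)
  haveI : Surjective i₀.left := inferInstanceAs (Surjective I.subschemeι)
  haveI : Mono i₀ := Over.mono_of_mono_left i₀
  haveI hsm : Smooth U.hom := CohDer1.AntiAff.smooth_reduced G₀ I.subschemeι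
  have hlift : ∀ {T : Over (Spec (CommRingCat.of K))}, IsReduced T.left → ∀ t : T ⟶ G₀, ∃ l : T ⟶ U, l ≫ i₀ = t := by
    intro T hT t
    obtain ⟨l, hl⟩ := CohDer1.AntiAff.exists_lift_reduced i₀.left t.left
    exact ⟨Over.homMk l (by
      show l ≫ i₀.left ≫ G₀.hom = T.hom
      rw [← Category.assoc, hl, Over.w]), Over.OverMorphism.ext hl⟩
  haveI : IsReduced (U ⊗ U).left := by
    haveI : Smooth (snd U U).left := MorphismProperty.pullback_snd (P := @Smooth) U.hom U.hom inferInstance
    haveI : Smooth ((snd U U).left ≫ U.hom) := inferInstance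
    exact AbSchLib.isReduced_of_smooth ((snd U U).left ≫ U.hom)
  haveI : IsReduced (𝟙_ (Over (Spec (CommRingCat.of K)))).left :=
    inferInstanceAs (IsReduced (Spec (CommRingCat.of K)))
  obtain ⟨iU, hiU⟩ := AlgGrpLib.exists_grpObj_of_mono i₀ (hlift inferInstance 1)
    (hlift inferInstance _) (hlift (AbSchLib.isReduced_of_smooth U.hom) _)
  haveI := hiU
  haveI : ConnectedSpace U.left := by
    haveI : ConnectedSpace (Set.range ⇑(i₀ ≫ incl).left) := by
      refine isConnected_iff_connectedSpace.1 ?_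
      rw [Over.comp_left, Scheme.Hom.comp_base, TopCat.coe_comp, Set.range_comp, i₀.left.surjective.range_eq,
        Set.image_univ]
      exact hrange ▸ isConnected_connectedComponent
    haveI : IsClosedImmersion (i₀ ≫ incl).left := by rw [Over.comp_left]; infer_instance
    let e := (i₀ ≫ incl).left.isEmbedding.toHomeomorph
    exact e.symm.surjective.connectedSpace e.symm.continuous
  refine ⟨U, iU, i₀ ≫ incl, inferInstance, hsm, ‹_›, ?_, ?_⟩
  · rw [Over.comp_left]
    infer_instance
  · rw [Over.comp_left, Scheme.Hom.comp_base, TopCat.coe_comp, Set.range_comp, i₀.left.surjective.range_eq,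
      Set.image_univ]
    exact hrange

end Sections

variable {k : Type u} [Field k] (kb : Type u) [Field kb] [Algebra k kb] [IsAlgClosed kb]
  {G X : Over (Spec (CommRingCat.of k))} [GrpObj G] [Smooth G.hom] [IsAffineHom G.hom]
  [LocallyOfFiniteType X.hom] (aX : AlgGrp.Action G X)
  {A : Type u} [CommRing A] [HopfAlgebra k A] (eG : spec (k := k) A ⟶ G) [IsIso eG] [IsMonHom eG]

/-- The points. -/
def toG : Pt k A kb →* (SGA7.pt (K := k) kb ⟶ G) :=
  MonoidHom.mk' (fun g => ptSpec (k := k) (A := A) (T := kb) g ≫ eG) fun g h => by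
    rw [map_mul, MonObj.mul_comp]

/-- The stabiliser among the points. -/
def stabPt (x : SGA7.pt (K := k) kb ⟶ X) : Subgroup (Pt k A kb) where
  carrier := {g | Stk19b.QuotTriv.smulPt aX (toG kb eG g) x = x}
  one_mem' := by
    show Stk19b.QuotTriv.smulPt aX (toG kb eG 1) x = x
    rw [map_one, Stk19b.QuotTriv.smulPt_one]
  mul_mem' := fun {g h} (hg : _ = x) (hh : _ = x) => by
    show Stk19b.QuotTriv.smulPt aX (toG kb eG (g * h)) x = x
    rw [map_mul, Stk19b.QuotTriv.smulPt_mul, hh, hg]
  inv_mem' := fun {g} (hg : _ = x) => by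
    show Stk19b.QuotTriv.smulPt aX (toG kb eG g⁻¹) x = x
    conv_lhs => rw [← hg]
    rw [← Stk19b.QuotTriv.smulPt_mul, ← map_mul, inv_mul_cancel, map_one, Stk19b.QuotTriv.smulPt_one]

/-- The neutral reduced part of a stabiliser, as an ideal of functions on the geometric group. -/
theorem exists_neutral_part (x : SGA7.pt (K := k) kb ⟶ X)
    (S : Over (Spec (CommRingCat.of kb))) [GrpObj S] (s : S ⟶ GalTw.bcK kb G) [IsMonHom s] [Mono s]
    (hS : ∀ (T : Over (Spec (CommRingCat.of kb)))
      (g : (Over.map (SGA7.pt (K := k) kb).hom).obj T ⟶ G),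
      (∃ g' : T ⟶ S, g' ≫ s = (Over.mapPullbackAdj (SGA7.pt (K := k) kb).hom).homEquiv T G g) ↔
        lift g ((Over.homMk T.hom rfl : (Over.map (SGA7.pt (K := k) kb).hom).obj T ⟶ SGA7.pt (K := k) kb) ≫ x)
            ≫ aX.act =
          (Over.homMk T.hom rfl : (Over.map (SGA7.pt (K := k) kb).hom).obj T ⟶ SGA7.pt (K := k) kb) ≫ x)
    (hSu : Red.HasNoSubtorus kb S) (d : ℕ) (hd : topologicalKrullDim ↥S.left = (d : WithBot ℕ∞)) :
    ∃ (B : Type u) (_ : CommRing B) (_ : HopfAlgebra kb B) (_ : Algebra.FiniteType kb B) (_ : IsDomain B)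
      (π : kb ⊗[k] A →ₐc[kb] B) (V : Subgroup (Pt k A kb)),
      Function.Surjective π ∧ HopfRep.IsUnipotent kb B ∧ ringKrullDim B = (d : WithBot ℕ∞) ∧
      V ≤ stabPt kb aX eG x ∧ Finite (stabPt kb aX eG x ⧸ V.subgroupOf (stabPt kb aX eG x)) ∧
      (∀ y : B →ₐ[kb] kb, ∃ g ∈ V, ∀ z, evK g z = y (π z)) ∧
      (∀ g ∈ V, ∃ y : B →ₐ[kb] kb, ∀ z, evK g z = y (π z)) := by
  classical
  let str : Spec (CommRingCat.of kb) ⟶ Spec (CommRingCat.of k) := (SGA7.pt (K := k) kb).hom
  let adj := Over.mapPullbackAdj str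
  haveI : Smooth (GalTw.bcK kb G).hom := inferInstanceAs (Smooth (pullback.snd G.hom str))
  haveI : IsAffineHom (GalTw.bcK kb G).hom := inferInstanceAs (IsAffineHom (pullback.snd G.hom str))
  haveI : LocallyOfFiniteType (GalTw.bcK kb X).hom := inferInstanceAs (LocallyOfFiniteType (pullback.snd X.hom str))
  -- the orbit map
  let π₀ : ∀ T : Over (Spec (CommRingCat.of kb)), (Over.map str).obj T ⟶ SGA7.pt (K := k) kb :=
    fun T => Over.homMk T.hom rfl
  have hπ₀ : ∀ {T T' : Over (Spec (CommRingCat.of kb))} (f : T ⟶ T'), (Over.map str).map f ≫ π₀ T' = π₀ T :=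
    fun f => Over.OverMorphism.ext (Over.w f)
  let a₀ : (Over.map str).obj (GalTw.bcK kb G) ⟶ G := (adj.homEquiv _ G).symm (𝟙 _)
  let orb : GalTw.bcK kb G ⟶ GalTw.bcK kb X :=
    adj.homEquiv _ X (lift a₀ (π₀ _ ≫ x) ≫ aX.act)
  let xK : 𝟙_ (Over (Spec (CommRingCat.of kb))) ⟶ GalTw.bcK kb X := adj.homEquiv _ X (π₀ _ ≫ x)
  have hiff : ∀ {T : Over (Spec (CommRingCat.of kb))} (h : T ⟶ GalTw.bcK kb G),
      (∃ g' : T ⟶ S, g' ≫ s = h) ↔ h ≫ orb = toUnit T ≫ xK := by
    intro T h
    have h1 := hS T ((adj.homEquiv T G).symm h)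
    rw [show (Over.mapPullbackAdj (SGA7.pt (K := k) kb).hom).homEquiv T G ((adj.homEquiv T G).symm h) = h from
      (adj.homEquiv T G).apply_symm_apply h] at h1
    rw [h1]
    show _ ↔ h ≫ adj.homEquiv _ X _ = toUnit T ≫ adj.homEquiv _ X _
    rw [← Adjunction.homEquiv_naturality_left, ← Adjunction.homEquiv_naturality_left, Equiv.apply_eq_iff_eq,
      ← Category.assoc _ _ aX.act, comp_lift, ← Adjunction.homEquiv_naturality_left_symm, Category.comp_id,
      ← Category.assoc _ (π₀ _), hπ₀, ← Category.assoc _ (π₀ _), hπ₀]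
  haveI : IsClosedImmersion xK.left := isClosedImmersion_section (GalTw.bcK kb X).hom xK.left (Over.w xK)
  -- `S` is the pullback
  let q : pullback orb xK ⟶ GalTw.bcK kb G := pullback.fst orb xK
  haveI : IsClosedImmersion q.left :=
    MorphismProperty.of_isPullback (P := @IsClosedImmersion)
      ((IsPullback.of_hasPullback orb xK).map (Over.forget _)).flip ‹IsClosedImmersion xK.left›
  haveI : Mono q := Over.mono_of_mono_left q
  obtain ⟨α, hα⟩ : ∃ α : S ⟶ pullback orb xK, α ≫ q = s :=
    ⟨pullback.lift s (toUnit S) ((hiff s).1 ⟨𝟙 S, Category.id_comp s⟩), pullback.lift_fst _ _ _⟩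
  obtain ⟨β, hβ⟩ := (hiff q).2 (pullback.condition.trans (by rw [toUnit_unique (pullback.snd orb xK) (toUnit _)]))
  haveI : IsIso α := ⟨β, by rw [← cancel_mono s, Category.assoc, hβ, hα, Category.id_comp],
    by rw [← cancel_mono q, Category.assoc, hα, hβ, Category.id_comp]⟩
  haveI : IsIso α.left := inferInstanceAs (IsIso ((Over.forget _).map α))
  haveI : IsClosedImmersion s.left := by rw [← hα, Over.comp_left]; infer_instance
  haveI : LocallyOfFiniteType S.hom := by rw [← Over.w s]; infer_instance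
  haveI : IsAffine (GalTw.bcK kb G).left := isAffine_of_isAffineHom (GalTw.bcK kb G).hom
  -- the neutral reduced part
  obtain ⟨U, iUg, i, hi, hUs, hUc, hici, hirange⟩ := exists_reduced_neutral (S := S)
  haveI := hi; haveI := hUs; haveI := hUc; haveI := hici
  haveI : Mono i := Over.mono_of_mono_left i
  haveI : IsClosedImmersion (i ≫ s).left := by rw [Over.comp_left]; infer_instance
  haveI : IsAffine U.left := isAffine_of_isAffineHom (i ≫ s).left
  have hUu : Red.HasNoSubtorus kb U := fun T _ j _ _ hT => hSu T (j ≫ i) hT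
  obtain ⟨B, iB1, iB2, eB, heB, heB'⟩ := exists_spec (k := kb) U
  haveI : IsIso eB.left := inferInstanceAs (IsIso ((Over.forget _).map eB))
  haveI : LocallyOfFiniteType U.hom := inferInstance
  haveI : Algebra.FiniteType kb B := by
    haveI : LocallyOfFiniteType (spec (k := kb) B).hom := by rw [← Over.w eB]; infer_instance
    exact RingHom.finiteType_algebraMap.1 ((HasRingHomProperty.Spec_iff (P := @LocallyOfFiniteType)
      (φ := CommRingCat.ofHom (algebraMap kb B))).1 ‹LocallyOfFiniteType (spec (k := kb) B).hom›)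
  haveI : QuasiCompact U.hom := by
    haveI : CompactSpace U.left := inferInstance
    exact (quasiCompact_iff_compactSpace _).mpr inferInstance
  haveI : IsDomain B := by
    haveI : IsIntegral U.left := AbVarLib.isIntegral_of_smooth_connected U.hom
    haveI : Nonempty ↥(Spec (CommRingCat.of B)) :=
      ⟨(CategoryTheory.inv eB.left).base (Nonempty.some inferInstance)⟩
    exact (affine_isIntegral_iff (CommRingCat.of B)).1 (isIntegral_of_isOpenImmersion eB.left)
  -- the map on functions
  haveI : IsMonHom (CoactBr.bcIso k kb A).hom := CoactBr.bcIso_isMonHom k kb A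
  haveI : IsMonHom (CoactBr.bcIso k kb A).inv := inferInstance
  let eb : spec (k := kb) (kb ⊗[k] A) ⟶ GalTw.bcK kb G := (CoactBr.bcIso k kb A).inv ≫ (Over.pullback str).map eG
  haveI : IsIso eb := inferInstanceAs (IsIso ((CoactBr.bcIso k kb A).inv ≫ (Over.pullback str).map eG))
  haveI : IsMonHom ((Over.pullback str).map eG) := inferInstanceAs (IsMonHom ((Over.pullback str).map eG))
  haveI : IsMonHom eb := inferInstanceAs (IsMonHom ((CoactBr.bcIso k kb A).inv ≫ (Over.pullback str).map eG))
  haveI : IsMonHom (CategoryTheory.inv eb) := inferInstanceAs (IsMonHom (asIso eb).inv)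
  haveI : IsIso (CategoryTheory.inv eb).left :=
    inferInstanceAs (IsIso ((Over.forget _).map (CategoryTheory.inv eb)))
  obtain ⟨π, hπj⟩ := exists_specHom (k := kb) (A := kb ⊗[k] A) (B := B) (eB ≫ (i ≫ s) ≫ CategoryTheory.inv eb)
  haveI hci : IsClosedImmersion (Spec.map (CommRingCat.ofHom (π : kb ⊗[k] A →+* B))) := by
    rw [← specHom_left, hπj, Over.comp_left, Over.comp_left, Over.comp_left]
    infer_instance
  have hπ : Function.Surjective π := by
    have h := Scheme.Hom.app_surjective (Spec.map (CommRingCat.ofHom (π : kb ⊗[k] A →+* B))) ⊤ (isAffineOpen_top _)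
    have e0 := Scheme.ΓSpecIso_inv_naturality (CommRingCat.ofHom (π : kb ⊗[k] A →+* B))
    intro y
    obtain ⟨z, hz⟩ := h ((Scheme.ΓSpecIso (CommRingCat.of B)).inv y)
    obtain ⟨w, rfl⟩ := (ConcreteCategory.bijective_of_isIso (Scheme.ΓSpecIso (CommRingCat.of (kb ⊗[k] A))).inv).2 z
    refine ⟨w, (ConcreteCategory.bijective_of_isIso (Scheme.ΓSpecIso (CommRingCat.of B)).inv).1 ?_⟩
    exact (congrArg (fun f => f.hom w) e0).trans hz
  -- sections and points
  let E : Pt k A kb → Pt kb (kb ⊗[k] A) kb := fun g => toConv (evK g)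
  let secK : (Pt k A kb) → (𝟙_ (Over (Spec (CommRingCat.of kb))) ⟶ GalTw.bcK kb G) :=
    fun g => adj.homEquiv _ G (π₀ _ ≫ toG kb eG g)
  let u₀ : 𝟙_ (Over (Spec (CommRingCat.of kb))) ⟶ (Spec (CommRingCat.of kb)).asOver (Spec (CommRingCat.of kb)) :=
    Over.homMk (𝟙 _) (by
      show 𝟙 _ ≫ Spec.map (CommRingCat.ofHom (algebraMap kb kb)) = 𝟙 _
      rw [Category.id_comp, show CommRingCat.ofHom (algebraMap kb kb) = 𝟙 _ from rfl, Spec.map_id])
  haveI : IsIso u₀.left := inferInstanceAs (IsIso (𝟙 (Spec (CommRingCat.of kb))))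
  haveI : IsIso u₀ := by
    haveI : IsIso ((Over.forget _).map u₀) := ‹IsIso u₀.left›
    exact isIso_of_reflects_iso u₀ (Over.forget _)
  have hsec : ∀ g, secK g = u₀ ≫ ptSpec (k := kb) (A := kb ⊗[k] A) (T := kb) (E g) ≫ eb := by
    intro g
    apply (adj.homEquiv _ G).symm.injective
    rw [Equiv.symm_apply_apply]
    apply Over.OverMorphism.ext
    have e1 : ∀ (T : Over (Spec (CommRingCat.of kb))) (f : T ⟶ GalTw.bcK kb G),
        ((adj.homEquiv T G).symm f).left = f.left ≫ pullback.fst G.hom str := fun T f => by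
      rw [Adjunction.homEquiv_counit, Over.comp_left, Over.mapPullbackAdj_counit_app]
      rfl
    rw [e1, Over.comp_left, Over.comp_left, Over.comp_left, Over.comp_left]
    show (𝟙 _) ≫ (ptSpec (k := k) (A := A) (T := kb) g).left ≫ eG.left = _
    simp only [Category.assoc]
    erw [Category.id_comp]
    show _ = _ ≫ (CoactBr.bcIso k kb A).inv.left ≫ ((Over.pullback str).map eG).left ≫ pullback.fst G.hom str
    rw [show ((Over.pullback str).map eG).left ≫ pullback.fst G.hom str =
      pullback.fst (spec (k := k) A).hom str ≫ eG.left by simp]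
    rw [show (CoactBr.bcIso k kb A).inv.left =
      (pullbackSymmetry _ _ ≪≫ pullbackSpecIso' k kb A).inv from rfl, Iso.trans_inv]
    erw [Category.assoc, pullbackSymmetry_inv_comp_fst_assoc]
    simp only [pullbackSpecIso', specOverSpec_over]
    erw [pullbackSpecIso_inv_snd_assoc]
    show Spec.map _ ≫ _ = Spec.map _ ≫ Spec.map _ ≫ _
    rw [← Spec.map_comp_assoc]
    congr 2
    ext a
    exact ((evK_tmul g 1 a).trans (_root_.one_mul _)).symm
  have hmem : ∀ g, g ∈ stabPt kb aX eG x ↔ ∃ σ, σ ≫ s = secK g := by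
    intro g
    rw [hS]
    show Stk19b.QuotTriv.smulPt aX (toG kb eG g) x = x ↔
      lift (π₀ _ ≫ toG kb eG g) (π₀ _ ≫ x) ≫ aX.act = π₀ _ ≫ x
    rw [← comp_lift, Category.assoc]
    haveI : IsIso (π₀ (𝟙_ (Over (Spec (CommRingCat.of kb))))).left :=
      inferInstanceAs (IsIso (𝟙 (Spec (CommRingCat.of kb))))
    haveI : IsIso (π₀ (𝟙_ (Over (Spec (CommRingCat.of kb))))) := by
      haveI : IsIso ((Over.forget _).map (π₀ (𝟙_ (Over (Spec (CommRingCat.of kb)))))) := ‹IsIso (π₀ (𝟙_ (Over (Spec (CommRingCat.of kb))))).left›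
      exact isIso_of_reflects_iso _ (Over.forget _)
    rw [cancel_epi]
  have secK_mul : ∀ g h, secK (g * h) = secK g * secK h := fun g h => by
    have hE : E (g * h) = E g * E h := by
      apply ofConv_injective
      refine Algebra.TensorProduct.ext (Subsingleton.elim _ _) (AlgHom.ext fun a => ?_)
      show evK (g * h) ((1 : kb) ⊗ₜ[k] a) = (E g * E h).ofConv ((1 : kb) ⊗ₜ[k] a)
      rw [evK_tmul, _root_.one_mul, HopfQuot.mul_apply, HopfQuot.mul_apply, comul_one_tmul]
      generalize CoalgebraStruct.comul (R := k) a = t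
      induction t using TensorProduct.induction_on with
      | zero => simp
      | add p q hp hq => simp only [map_add, hp, hq]
      | tmul p q =>
        rw [incl₂_tmul, Algebra.TensorProduct.lift_tmul, Algebra.TensorProduct.lift_tmul]
        show _ = evK g _ * evK h _
        rw [evK_tmul, evK_tmul, _root_.one_mul, _root_.one_mul]
    rw [hsec, hsec, hsec, hE, map_mul, MonObj.mul_comp, MonObj.comp_mul]
  let secH : Pt k A kb →* (𝟙_ (Over (Spec (CommRingCat.of kb))) ⟶ GalTw.bcK kb G) := MonoidHom.mk' secK secK_mul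
  let iS : (𝟙_ (Over (Spec (CommRingCat.of kb))) ⟶ U) →* (𝟙_ (Over (Spec (CommRingCat.of kb))) ⟶ GalTw.bcK kb G) :=
    MonoidHom.mk' (fun u => u ≫ i ≫ s) fun u v => MonObj.mul_comp u v (i ≫ s)
  let V : Subgroup (Pt k A kb) := iS.range.comap secH
  have hcomp : ∀ y : Pt kb B kb, (u₀ ≫ ptSpec (k := kb) (A := B) (T := kb) y ≫ eB) ≫ i ≫ s =
      u₀ ≫ ptSpec (k := kb) (A := kb ⊗[k] A) (T := kb) (toConv (y.ofConv.comp (π : kb ⊗[k] A →ₐ[kb] B))) ≫ eb := by
    intro y
    rw [← ptSpec_comp, hπj]
    simp
  refine ⟨B, iB1, iB2, inferInstance, inferInstance, π, V, hπ,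
    AlgGrpLib.NoTorus.isUnipotent_of_hasNoSubtorus hUu eB, ?_, ?_, ?_, ?_, ?_⟩
  · -- dimension
    rw [← PrimeSpectrum.topologicalKrullDim_eq_ringKrullDim,
      show topologicalKrullDim (PrimeSpectrum B) = topologicalKrullDim ↥U.left from
        IsHomeomorph.topologicalKrullDim_eq _ eB.left.homeomorph.isHomeomorph]
    let e := i.left.isEmbedding.toHomeomorph
    rw [IsHomeomorph.topologicalKrullDim_eq _ e.isHomeomorph, hirange]
    let m : AlgGrp.Action S S :=
      { act := μ[S]
        one_act := MonObj.one_mul S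
        mul_act := MonObj.mul_assoc S }
    rw [HomogDim26.dim_connectedComponent m ?_, hd]
    haveI : IsIso (lift m.act (snd S S)) := ⟨lift (fst S S * (snd S S)⁻¹) (snd S S),
      CartesianMonoidalCategory.hom_ext _ _ (by
        simp [m, MonObj.comp_mul, GrpObj.comp_inv, ← Hom.mul_def, MonObj.mul_eq_mul]) (by simp),
      CartesianMonoidalCategory.hom_ext _ _ (by
        simp [m, MonObj.comp_mul, GrpObj.comp_inv, ← Hom.mul_def, MonObj.mul_eq_mul]) (by simp)⟩
    haveI : IsIso (lift m.act (snd S S)).left := inferInstanceAs (IsIso ((Over.forget _).map (lift m.act (snd S S))))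
    exact inferInstance
  · rintro g ⟨u, hu : u ≫ i ≫ s = secK g⟩
    exact (hmem g).2 ⟨u ≫ i, by rw [Category.assoc, hu]⟩
  · -- finitely many cosets
    have hlift : ∀ σ : 𝟙_ (Over (Spec (CommRingCat.of kb))) ⟶ S,
        σ.left (IsLocalRing.closedPoint kb) ∈ connectedComponent (η[S].left (IsLocalRing.closedPoint kb)) →
        ∃ u : 𝟙_ (Over (Spec (CommRingCat.of kb))) ⟶ U, u ≫ i = σ := by
      intro σ hσ
      rw [← hirange] at hσ
      obtain ⟨z, hz⟩ := hσ
      haveI : IsReduced (𝟙_ (Over (Spec (CommRingCat.of kb)))).left :=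
        inferInstanceAs (IsReduced (Spec (CommRingCat.of kb)))
      haveI : Subsingleton ↥(𝟙_ (Over (Spec (CommRingCat.of kb)))).left :=
        inferInstanceAs (Subsingleton (PrimeSpectrum kb))
      obtain ⟨l, hl⟩ := RedSepLib.exists_lift_of_range_subset σ.left i.left (by
        rintro _ ⟨y, rfl⟩
        haveI : Subsingleton ↥(Spec (CommRingCat.of kb)) := inferInstanceAs (Subsingleton (PrimeSpectrum kb))
        exact ⟨z, hz.trans (congrArg (fun y => σ.left y) (Subsingleton.elim _ y))⟩)
      exact ⟨Over.homMk l (by rw [← Over.w i, ← Category.assoc, hl, Over.w]), Over.OverMorphism.ext hl⟩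
    choose σ hσ using fun g : stabPt kb aX eG x => (hmem g.1).1 g.2
    haveI : CompactSpace S.left := s.left.isClosedEmbedding.compactSpace
    haveI : IsLocallyNoetherian S.left := LocallyOfFiniteType.isLocallyNoetherian S.hom
    haveI : IsNoetherian S.left := { }
    haveI : Finite (_root_.ConnectedComponents S.left) := by
      haveI : Finite (irreducibleComponents S.left) :=
        (TopologicalSpace.NoetherianSpace.finite_irreducibleComponents).to_subtype
      refine Finite.of_surjective (fun C : irreducibleComponents S.left =>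
        ConnectedComponents.mk (C.2.1.1.some)) ?_
      intro c
      obtain ⟨y, rfl⟩ := ConnectedComponents.surjective_coe c
      refine ⟨⟨irreducibleComponent y, irreducibleComponent_mem_irreducibleComponents y⟩,
        ConnectedComponents.coe_eq_coe'.2 ?_⟩
      exact isIrreducible_irreducibleComponent.isPreirreducible.isPreconnected.subset_connectedComponent
        mem_irreducibleComponent (Set.Nonempty.some_mem _)
    have key : ∀ g h : stabPt kb aX eG x,
        ConnectedComponents.mk ((σ g).left (IsLocalRing.closedPoint kb)) =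
          ConnectedComponents.mk ((σ h).left (IsLocalRing.closedPoint kb)) → g.1⁻¹ * h.1 ∈ V := by
      intro g h he
      have e1 : (σ g⁻¹).left = (σ g⁻¹).left := rfl
      have hmap := (AbVarLib.translate (σ g)⁻¹).hom.left.continuous.image_connectedComponent_subset
        ((σ g).left (IsLocalRing.closedPoint kb))
      have hg' : (AbVarLib.translate (σ g)⁻¹).hom.left ((σ g).left (IsLocalRing.closedPoint kb)) =
          η[S].left (IsLocalRing.closedPoint kb) := by
        refine (CohDer1.QuasiAffHom.translate_apply (σ g)⁻¹ (σ g)).trans ?_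
        rw [inv_mul_cancel, MonObj.one_eq_one]
      have hh : (AbVarLib.translate (σ g)⁻¹).hom.left ((σ h).left (IsLocalRing.closedPoint kb)) ∈
          connectedComponent (η[S].left (IsLocalRing.closedPoint kb)) := by
        rw [← hg']
        exact hmap ⟨_, (ConnectedComponents.coe_eq_coe'.1 he.symm), rfl⟩
      rw [show (AbVarLib.translate (σ g)⁻¹).hom.left ((σ h).left (IsLocalRing.closedPoint kb)) =
        ((σ g)⁻¹ * σ h).left (IsLocalRing.closedPoint kb) from
          CohDer1.QuasiAffHom.translate_apply (σ g)⁻¹ (σ h)] at hh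
      obtain ⟨u, hu⟩ := hlift _ hh
      refine ⟨u, ?_⟩
      show u ≫ i ≫ s = secH (g.1⁻¹ * h.1)
      rw [← Category.assoc, hu, MonObj.mul_comp, GrpObj.inv_comp, hσ, hσ, map_mul, map_inv]
      rfl
    choose pick hpick using fun q : stabPt kb aX eG x ⧸ V.subgroupOf (stabPt kb aX eG x) => Quotient.exists_rep q
    refine Finite.of_injective (fun q => ConnectedComponents.mk ((σ (pick q)).left (IsLocalRing.closedPoint kb)))
      fun q q' he => ?_
    rw [← hpick q, ← hpick q']
    exact QuotientGroup.eq.2 (key _ _ he)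
  · intro y
    refine ⟨toConv (((y.comp (π : kb ⊗[k] A →ₐ[kb] B)).restrictScalars k).comp Algebra.TensorProduct.includeRight),
      ⟨u₀ ≫ ptSpec (k := kb) (A := B) (T := kb) (toConv y) ≫ eB, ?_⟩, ?_⟩
    · show (u₀ ≫ _ ≫ eB) ≫ i ≫ s = secK _
      rw [hcomp, hsec]
      congr 3
      apply ofConv_injective
      refine Algebra.TensorProduct.ext (Subsingleton.elim _ _) (AlgHom.ext fun a => ?_)
      show y (π ((1 : kb) ⊗ₜ[k] a)) = evK _ ((1 : kb) ⊗ₜ[k] a)
      rw [evK_tmul, _root_.one_mul]
      rfl
    · intro z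
      induction z using TensorProduct.induction_on with
      | zero => simp
      | add p q hp hq => simp only [map_add, hp, hq]
      | tmul r a =>
        rw [evK_tmul]
        show r * y (π ((1 : kb) ⊗ₜ[k] a)) = y (π (r ⊗ₜ[k] a))
        conv_rhs => rw [show r ⊗ₜ[k] a = r • ((1 : kb) ⊗ₜ[k] a) by
          rw [TensorProduct.smul_tmul', smul_eq_mul, _root_.mul_one]]
        rw [map_smul, map_smul, smul_eq_mul]
  · rintro g ⟨u, hu : u ≫ i ≫ s = secK g⟩
    obtain ⟨y, hy⟩ := (ptSpec (k := kb) (A := B) (T := kb)).surjective (CategoryTheory.inv u₀ ≫ u ≫ CategoryTheory.inv eB)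
    refine ⟨y.ofConv, fun z => ?_⟩
    have h0 : u = u₀ ≫ ptSpec (k := kb) (A := B) (T := kb) y ≫ eB := by rw [hy]; simp
    rw [h0, hcomp, hsec, cancel_epi, cancel_mono, EmbeddingLike.apply_eq_iff_eq] at hu
    exact (congrArg (fun p : Pt kb (kb ⊗[k] A) kb => p.ofConv z) hu).symm

end Groth.Agent.UnipCount19
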