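import Groth.Agent.UnipCount19.Stab
import Groth.Agent.Stk19b.Count.Classify

/-! Mass of the pairs for a group with unipotent neutral component acting on a finite scheme. -/

set_option autoImplicit false
set_option linter.style.haveILetI false
set_option linter.unusedSectionVars false
set_option maxHeartbeats 1000000
set_option synthInstance.maxHeartbeats 80000
set_option backward.isDefEq.respectTransparency.types false
set_option backward.isDefEq.respectTransparency false

universe u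

open CategoryTheory Limits MonoidalCategory CartesianMonoidalCategory MonObj GrpObj AlgebraicGeometry
open scoped TensorProduct
open WithConv
open Groth.Agent.HopfQuot

noncomputable section

namespace Groth.Agent.UnipCount19

variable {k : Type u} [Field k] (kb : Type u) [Field kb] [Algebra k kb]
  {G E : Over (Spec (CommRingCat.of k))} [GrpObj G] (aE : AlgGrp.Action G E)
  {A : Type u} [CommRing A] [HopfAlgebra k A] (eG : spec (k := k) A ⟶ G) [IsMonHom eG]

theorem finite_points [IsFinite E.hom] : Finite (SGA7.pt (K := k) kb ⟶ E) := by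
  haveI : IsAffine E.left := isAffine_of_isAffineHom E.hom
  let φ : k →+* Γ(E.left, ⊤) := ((Scheme.ΓSpecIso (CommRingCat.of k)).inv ≫ E.hom.appTop).hom
  letI := φ.toAlgebra
  haveI : Module.Finite k Γ(E.left, ⊤) := by
    refine RingHom.finite_algebraMap.1 ?_
    show ((E.hom.appTop).hom.comp (Scheme.ΓSpecIso (CommRingCat.of k)).inv.hom).Finite
    refine RingHom.Finite.comp ?_ (RingHom.Finite.of_surjective _
      (ConcreteCategory.bijective_of_isIso (Scheme.ΓSpecIso (CommRingCat.of k)).inv).2)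
    exact ((isFinite_iff E.hom).1 inferInstance).2 ⊤ (isAffineOpen_top _)
  refine Finite.of_injective (fun y : SGA7.pt (K := k) kb ⟶ E =>
    ({ toRingHom := (y.left.appTop ≫ (Scheme.ΓSpecIso (CommRingCat.of kb)).hom).hom
       commutes' := fun r => by
        show ((Scheme.ΓSpecIso (CommRingCat.of k)).inv ≫ (E.hom.appTop ≫ y.left.appTop) ≫
          (Scheme.ΓSpecIso (CommRingCat.of kb)).hom).hom r = algebraMap k kb r
        rw [← Scheme.Hom.comp_appTop, Over.w y]
        show ((Scheme.ΓSpecIso (CommRingCat.of k)).inv ≫ (Spec.map (CommRingCat.ofHom (algebraMap k kb))).appTop ≫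
          (Scheme.ΓSpecIso (CommRingCat.of kb)).hom).hom r = _
        rw [Scheme.ΓSpecIso_naturality, Iso.inv_hom_id_assoc]
        rfl } : Γ(E.left, ⊤) →ₐ[k] kb)) fun y y' h => Over.OverMorphism.ext (ext_of_isAffine ?_)
  refine (cancel_mono (Scheme.ΓSpecIso (CommRingCat.of kb)).hom).1 ?_
  exact CommRingCat.hom_ext (congrArg AlgHom.toRingHom h :)

/-- Stabilisers of points of an affine scheme are closed. -/
theorem isCl_stabPt [IsAlgClosed kb] [IsAffine E.left] [Smooth G.hom] [IsAffineHom G.hom] [IsIso eG]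
    [LocallyOfFiniteType E.hom] (x : SGA7.pt (K := k) kb ⟶ E) :
    IsCl ((stabPt kb aE eG x : Subgroup (Pt k A kb)) : Set (Pt k A kb)) := by
  let AK := kb ⊗[k] A
  let tU : (Spec (CommRingCat.of AK)).asOver (Spec (CommRingCat.of k)) ⟶ SGA7.pt (K := k) kb :=
    Over.homMk (Spec.map (CommRingCat.ofHom Algebra.TensorProduct.includeLeftRingHom)) (by
      show Spec.map _ ≫ Spec.map _ = Spec.map _
      rw [← Spec.map_comp]
      congr 1)
  let gU : (Spec (CommRingCat.of AK)).asOver (Spec (CommRingCat.of k)) ⟶ G :=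
    ptSpec (k := k) (A := A) (T := AK) (toConv Algebra.TensorProduct.includeRight) ≫ eG
  let o₁ := lift gU (tU ≫ x) ≫ aE.act
  let o₂ := tU ≫ x
  refine ⟨Set.range fun b : Γ(E.left, ⊤) => (Scheme.ΓSpecIso (CommRingCat.of AK)).hom.hom
    (o₁.left.appTop b - o₂.left.appTop b), fun g => ?_⟩
  let ev : SGA7.pt (K := k) kb ⟶ (Spec (CommRingCat.of AK)).asOver (Spec (CommRingCat.of k)) :=
    Over.homMk (Spec.map (CommRingCat.ofHom (evK g).toRingHom)) (by
      show Spec.map _ ≫ Spec.map _ = Spec.map _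
      rw [← Spec.map_comp]
      congr 1
      ext r
      exact (evK g).toRingHom.congr_arg rfl |>.trans (by
        show evK g (algebraMap k AK r) = algebraMap k kb r
        exact ((evK g).restrictScalars k).commutes r))
  have e1 : ev ≫ tU = 𝟙 _ := Over.OverMorphism.ext (by
    show Spec.map _ ≫ Spec.map _ = 𝟙 _
    rw [← Spec.map_comp, ← Spec.map_id]
    congr 1
    ext r
    show evK g (r ⊗ₜ[k] (1 : A)) = r
    rw [evK_tmul, map_one, _root_.mul_one])
  have e2 : ev ≫ gU = toG kb eG g := by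
    show ev ≫ ptSpec (k := k) (A := A) (T := AK) (toConv Algebra.TensorProduct.includeRight) ≫ eG = ptSpec g ≫ eG
    rw [← Category.assoc]
    congr 1
    refine Over.OverMorphism.ext ?_
    show Spec.map _ ≫ Spec.map _ = Spec.map _
    rw [← Spec.map_comp]
    congr 1
    ext a
    exact (evK_tmul g 1 a).trans (_root_.one_mul _)
  have h1 : ev ≫ o₁ = Stk19b.QuotTriv.smulPt aE (toG kb eG g) x := by
    show ev ≫ lift gU (tU ≫ x) ≫ aE.act = lift (toG kb eG g) x ≫ aE.act
    rw [← Category.assoc, comp_lift, ← Category.assoc ev tU, e1, e2, Category.id_comp]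
  have h2 : ev ≫ o₂ = x := by
    show ev ≫ tU ≫ x = x
    rw [← Category.assoc, e1, Category.id_comp]
  have hev : ∀ b, (ev ≫ o₁).left.appTop b = (ev ≫ o₂).left.appTop b ↔
      evK g ((Scheme.ΓSpecIso (CommRingCat.of AK)).hom.hom (o₁.left.appTop b - o₂.left.appTop b)) = 0 := fun b => by
    rw [← sub_eq_zero, Over.comp_left, Over.comp_left, Scheme.Hom.comp_appTop, Scheme.Hom.comp_appTop]
    show ev.left.appTop (o₁.left.appTop b) - ev.left.appTop (o₂.left.appTop b) = 0 ↔ _
    rw [← map_sub, ← (Scheme.ΓSpecIso (CommRingCat.of kb)).commRingCatIsoToRingEquiv.map_eq_zero_iff]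
    show ((Spec.map (CommRingCat.ofHom (evK g).toRingHom)).appTop ≫
      (Scheme.ΓSpecIso (CommRingCat.of kb)).hom).hom _ = 0 ↔ _
    rw [Scheme.ΓSpecIso_naturality]
    rfl
  show Stk19b.QuotTriv.smulPt aE (toG kb eG g) x = x ↔ _
  rw [← h1]
  conv_lhs => rhs; rw [← h2]
  constructor
  · rintro h _ ⟨b, rfl⟩
    exact (hev b).1 (by rw [h])
  · intro h
    refine Over.OverMorphism.ext (ext_of_isAffine ?_)
    ext b
    exact (hev b).2 (h _ ⟨b, rfl⟩)

variable [Finite k] [IsAlgClosed kb] [Algebra.IsAlgebraic k kb]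

/-- The mass of the pairs of an action on a finite scheme. -/
theorem mass_pairs_finite [Smooth G.hom] [IsAffineHom G.hom] [IsFinite E.hom]
    (hGu : Red.HasNoSubtorus kb (GalTw.bcK kb G)) (d : ℕ) (hd : topologicalKrullDim ↥G.left = (d : WithBot ℕ∞))
    (J : Type) [Fintype J] (x : J → SGA7.Pts kb E)
    (hdis : ∀ j j' : J, (∃ g : SGA7.Pts kb G, lift g (x j) ≫ aE.act = x j') → j = j')
    (hfix : ∀ (j : J) (σ : kb ≃ₐ[k] kb), ∃ g : SGA7.Pts kb G, lift g (σ • x j) ≫ aE.act = x j)
    (hall : ∀ y : SGA7.Pts kb E,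
      (∀ σ : kb ≃ₐ[k] kb, ∃ g : SGA7.Pts kb G, lift g (σ • y) ≫ aE.act = y) →
        ∃ (j : J) (g : SGA7.Pts kb G), lift g (x j) ≫ aE.act = y) :
    Finite (MulAction.orbitRel.Quotient (SGA7.pt (K := k) kb ⟶ G) (Stk19b.Count.Pairs k kb aE)) ∧
      Stk19b.Count.mass (SGA7.pt (K := k) kb ⟶ G) (Stk19b.Count.Pairs k kb aE) =
        (Fintype.card J : ℚ) * ((Nat.card k : ℚ) ^ d)⁻¹ := by
  classical
  letI := Fintype.ofFinite k
  obtain ⟨p, hchar⟩ := CharP.exists k
  obtain ⟨⟨e, he0⟩, hp, he⟩ := FiniteField.card k p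
  haveI : Fact p.Prime := ⟨hp⟩
  replace he : Nat.card k = p ^ e := by rw [Nat.card_eq_fintype_card]; exact he
  haveI : CharP kb p := charP_of_injective_algebraMap (algebraMap k kb).injective p
  let π₀ : kb ≃ₐ[k] kb := FiniteField.frobeniusAlgEquivOfAlgebraic k kb
  have hπ₀ : ∀ y : kb, π₀ y = y ^ Nat.card k := fun y => by rw [Nat.card_eq_fintype_card]; rfl
  have hFr : ∀ {Y : Over (Spec (CommRingCat.of k))} (y : SGA7.Pts kb Y),
      π₀ • y = Stk19b.Count.frM k k kb ≫ y := fun y => Stk19b.Count.frobenius_smul π₀ hπ₀ y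
  haveI : IsAffine G.left := isAffine_of_isAffineHom G.hom
  haveI : IsAffine E.left := isAffine_of_isAffineHom E.hom
  haveI : Finite (SGA7.pt (K := k) kb ⟶ E) := finite_points kb
  obtain ⟨A, iA1, iA2, eG, heG, heG'⟩ := HopfQuot.exists_spec (k := k) G
  haveI : IsIso eG.left := inferInstanceAs (IsIso ((Over.forget _).map eG))
  haveI : Algebra.FiniteType k A := by
    haveI : LocallyOfFiniteType (HopfQuot.spec (k := k) A).hom := by rw [← Over.w eG]; infer_instance
    exact RingHom.finiteType_algebraMap.1 ((HasRingHomProperty.Spec_iff (P := @LocallyOfFiniteType)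
      (φ := CommRingCat.ofHom (algebraMap k A))).1 ‹LocallyOfFiniteType (HopfQuot.spec (k := k) A).hom›)
  let tG := toG kb eG
  have htG : Function.Bijective tG := ⟨fun g h hgh => by
      have := (cancel_mono eG).1 (hgh : _ ≫ eG = _ ≫ eG)
      exact (HopfQuot.ptSpec (k := k) (A := A) (T := kb)).injective this,
    fun g => ⟨(HopfQuot.ptSpec (k := k) (A := A) (T := kb)).symm (g ≫ CategoryTheory.inv eG), by
      show HopfQuot.ptSpec ((HopfQuot.ptSpec (k := k) (A := A) (T := kb)).symm _) ≫ eG = g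
      simp⟩⟩
  let eΓ := MulEquiv.ofBijective tG htG
  have hfrob : ∀ g, tG (frobPt π₀ g) = Stk19b.Count.frM k k kb ≫ tG g := fun g => by
    show HopfQuot.ptSpec _ ≫ eG = Stk19b.Count.frM k k kb ≫ HopfQuot.ptSpec g ≫ eG
    rw [← Category.assoc (Stk19b.Count.frM k k kb)]
    congr 1
    refine Over.OverMorphism.ext ?_
    show Spec.map _ = Spec.map _ ≫ Spec.map _
    rw [← Spec.map_comp]
    congr 1
  -- the neutral part of the whole group
  let str : Spec (CommRingCat.of kb) ⟶ Spec (CommRingCat.of k) := (SGA7.pt (K := k) kb).hom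
  let one : Over (Spec (CommRingCat.of k)) := 𝟙_ _
  let aT : AlgGrp.Action G one :=
    { act := toUnit _
      one_act := toUnit_unique _ _
      mul_act := toUnit_unique _ _ }
  haveI : LocallyOfFiniteType one.hom :=
    inferInstanceAs (LocallyOfFiniteType (𝟙 (Spec (CommRingCat.of k))))
  have hdK : topologicalKrullDim ↥(GalTw.bcK kb G).left = (d : WithBot ℕ∞) := by
    let eb : spec (k := kb) (kb ⊗[k] A) ⟶ GalTw.bcK kb G :=
      (CoactBr.bcIso k kb A).inv ≫ (Over.pullback str).map eG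
    haveI : IsIso eb := inferInstanceAs (IsIso ((CoactBr.bcIso k kb A).inv ≫ (Over.pullback str).map eG))
    haveI : IsIso eb.left := inferInstanceAs (IsIso ((Over.forget _).map eb))
    rw [← IsHomeomorph.topologicalKrullDim_eq _ eb.left.homeomorph.isHomeomorph]
    show topologicalKrullDim (PrimeSpectrum (kb ⊗[k] A)) = _
    rw [PrimeSpectrum.topologicalKrullDim_eq_ringKrullDim, Synt15.ringKrullDim_tensor_field,
      ← PrimeSpectrum.topologicalKrullDim_eq_ringKrullDim, ← hd]
    exact IsHomeomorph.topologicalKrullDim_eq _ eG.left.homeomorph.isHomeomorph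
  obtain ⟨B, iB1, iB2, hBft, hBdom, π, V, hπ, hBu, hBd, -, hfinV, hV, hV'⟩ :=
    exists_neutral_part kb aT eG (toUnit _) (GalTw.bcK kb G) (𝟙 _)
      (fun T g => ⟨fun _ => toUnit_unique _ _, fun _ => ⟨_, Category.comp_id _⟩⟩) hGu d hdK
  letI : MulAction (SGA7.pt (K := k) kb ⟶ G) (SGA7.pt (K := k) kb ⟶ E) :=
    { smul := fun g y => Stk19b.QuotTriv.smulPt aE g y
      one_smul := fun y => Stk19b.QuotTriv.smulPt_one aE y
      mul_smul := fun g g' y => Stk19b.QuotTriv.smulPt_mul aE g g' y }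
  let f : Stk19b.Count.Pairs k kb aE →[(SGA7.pt (K := k) kb ⟶ G)] (SGA7.pt (K := k) kb ⟶ E) :=
    ⟨fun q => q.1.2, fun g q => rfl⟩
  have hex : ∀ q, ∃ j, ∃ g : SGA7.pt (K := k) kb ⟶ G, g • x j = f q := by
    intro q
    refine (hall q.1.2 fun σ => ?_)
    obtain ⟨L, hL, hp⟩ := Stk19b.Count.exists_finite_level q.1.2
    haveI := hL
    obtain ⟨y₁, hy₁⟩ := hp (Stk19b.Count.incl k L kb) (Stk19b.Count.incl_left k L kb)
    haveI : Finite L := Module.finite_of_finite k
    haveI : IsScalarTower k L kb := IsScalarTower.of_algebraMap_eq fun z => rfl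
    obtain ⟨i, hi⟩ := Stk19b.Count.exists_powM_of_base (k := k) (k' := k) (L := kb) (E := L)
      (Module.natCard_eq_pow_finrank (K := k) (V := L)) (Stk19b.Count.incl k L kb)
      (SGA7.specAut σ ≫ Stk19b.Count.incl k L kb)
      (by rw [Category.assoc, Stk19b.Count.incl_comp]; exact Over.OverMorphism.ext (by
        symm
        rw [Over.comp_left]
        show Spec.map _ = Spec.map _ ≫ Spec.map _
        rw [← Spec.map_comp]
        congr 1
        ext z
        exact (σ.commutes z).symm))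
    have hσ : σ • (q.1.2 : SGA7.Pts kb E) = Stk19b.Count.powM (Stk19b.Count.frM k k kb) i ≫ q.1.2 := by
      rw [← hy₁, GalTw.pts_smul_def, ← Category.assoc, hi, ← Category.assoc]
      congr 1
      exact (Stk19b.Count.powM_comm _ _ _ (Stk19b.Count.frM_incl k k kb L) i).symm
    refine ⟨(Stk19b.Count.normM k k kb q.1.1 i)⁻¹, ?_⟩
    show Stk19b.QuotTriv.smulPt aE _ (σ • (q.1.2 : SGA7.Pts kb E)) = q.1.2
    rw [hσ, Stk19b.Count.powM_smul (aX := aE) q.1.1 q.1.2 q.2 i, ← Stk19b.QuotTriv.smulPt_mul, inv_mul_cancel,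
      Stk19b.QuotTriv.smulPt_one]
  have hinj : ∀ j j' (g : SGA7.pt (K := k) kb ⟶ G), g • x j = x j' → j = j' :=
    fun j j' g hg => hdis j j' ⟨g, hg⟩
  have hfib : ∀ j, Finite (MulAction.orbitRel.Quotient (MulAction.stabilizer (SGA7.pt (K := k) kb ⟶ G) (x j))
        (Stk19b.Count.Fibre f (x j))) ∧
      Stk19b.Count.mass (MulAction.stabilizer (SGA7.pt (K := k) kb ⟶ G) (x j)) (Stk19b.Count.Fibre f (x j)) =
        ((Nat.card k : ℚ) ^ d)⁻¹ := by
    intro j
    let P := stabPt kb aE eG (x j)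
    have hP : ∀ g, g ∈ P ↔ Stk19b.QuotTriv.smulPt aE (tG g) (x j) = x j := fun g => Iff.rfl
    have hVP : V ≤ P := by
      haveI : Finite (V ⧸ P.subgroupOf V) := by
        refine Finite.of_injective
          (fun c => Quotient.liftOn' c (fun v : V => Stk19b.QuotTriv.smulPt aE (tG v.1) (x j)) fun v w hvw => ?_) ?_
        · rw [QuotientGroup.leftRel_apply, Subgroup.mem_subgroupOf, hP] at hvw
          conv_lhs => rw [← hvw]
          rw [← Stk19b.QuotTriv.smulPt_mul, ← map_mul]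
          simp
        · rintro ⟨v⟩ ⟨w⟩ (h : Stk19b.QuotTriv.smulPt aE (tG v.1) (x j) = Stk19b.QuotTriv.smulPt aE (tG w.1) (x j))
          refine Quotient.sound (QuotientGroup.leftRel_apply.2 ?_)
          rw [Subgroup.mem_subgroupOf, hP, Subgroup.coe_mul, Subgroup.coe_inv, map_mul, map_inv,
            Stk19b.QuotTriv.smulPt_mul, ← h, ← Stk19b.QuotTriv.smulPt_mul, inv_mul_cancel,
            Stk19b.QuotTriv.smulPt_one]
      exact le_of_finite_index π hV hV' (isCl_stabPt kb aE eG (x j))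
    haveI : Finite (P ⧸ V.subgroupOf P) := by
      haveI := hfinV
      refine Finite.of_injective (Quotient.map' (s₂ := QuotientGroup.leftRel (V.subgroupOf (stabPt kb aT eG (toUnit _))))
        (fun v : P => (⟨v.1, toUnit_unique _ _⟩ : stabPt kb aT eG (toUnit _)))
        (fun v w hvw => by
          rw [QuotientGroup.leftRel_apply] at hvw ⊢
          exact hvw)) ?_
      rintro ⟨v⟩ ⟨w⟩ hvw
      exact Quotient.sound (QuotientGroup.leftRel_apply.2 (QuotientGroup.leftRel_apply.1 (Quotient.exact hvw) :))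
    obtain ⟨g₀, hg₀⟩ := hfix j π₀
    change Stk19b.QuotTriv.smulPt aE g₀ (π₀ • (x j : SGA7.Pts kb E)) = x j at hg₀
    rw [hFr] at hg₀
    obtain ⟨c, hc⟩ := htG.2 g₀⁻¹
    have hxc : Stk19b.Count.frM k k kb ≫ x j = Stk19b.QuotTriv.smulPt aE (tG c) (x j) := by
      rw [hc]
      conv_rhs => rw [← hg₀]
      rw [← Stk19b.QuotTriv.smulPt_mul, inv_mul_cancel, Stk19b.QuotTriv.smulPt_one]
    have hcP : ∀ g, c⁻¹ * frobPt π₀ g * c ∈ P ↔ g ∈ P := fun g => by
      rw [hP, hP, map_mul, map_mul, map_inv, hfrob, Stk19b.QuotTriv.smulPt_mul, ← hxc,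
        Stk19b.QuotTriv.smulPt_mul, ← Stk19b.QuotTriv.comp_smulPt]
      constructor
      · intro h0
        have h1 := congrArg (Stk19b.QuotTriv.smulPt aE (tG c)) h0
        rw [← Stk19b.QuotTriv.smulPt_mul, mul_inv_cancel, Stk19b.QuotTriv.smulPt_one, ← hxc, ← hFr, ← hFr] at h1
        exact MulAction.injective (β := SGA7.Pts kb E) π₀ h1
      · intro h0
        rw [h0, hxc, ← Stk19b.QuotTriv.smulPt_mul, inv_mul_cancel, Stk19b.QuotTriv.smulPt_one]
    let θ : P →* P := MonoidHom.mk' (fun g => ⟨c⁻¹ * frobPt π₀ g.1 * c, (hcP g.1).2 g.2⟩) fun g g' =>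
      Subtype.ext (by
        show c⁻¹ * frobPt π₀ (g.1 * g'.1) * c = c⁻¹ * frobPt π₀ g.1 * c * (c⁻¹ * frobPt π₀ g'.1 * c)
        rw [map_mul]
        group)
    have hT : Inv θ (⊤ : Subgroup P) := ⟨fun _ _ _ => trivial, fun _ _ => trivial⟩
    have hfin : ∀ a, Finite {g // frobPt π₀ g * a * g⁻¹ = a} := fun a => by
      haveI := (Stk19b.Count.finite_twisted (k' := k) (aX := aE) (tG a)).1
      refine Finite.of_injective
        (fun g : {g // frobPt π₀ g * a * g⁻¹ = a} =>
          (⟨tG g.1, ?_⟩ : {g : SGA7.pt (K := k) kb ⟶ G // Stk19b.Count.twConj k kb g (tG a) = tG a}))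
        fun g g' h0 => Subtype.ext (htG.1 (congrArg Subtype.val h0 :))
      rw [Stk19b.Count.twConj, ← hfrob, ← map_inv, ← map_mul, ← map_mul, g.2]
    obtain ⟨hforb, hmass⟩ := hasMass_twisted π (p := p) (e := e)
      (he ▸ Finite.one_lt_card) π₀ (fun y => by rw [← he]; exact hπ₀ y) hπ hBu d hBd P hVP hV hV' c hcP θ
      (fun g => rfl) hfin hT 1
    letI := csAction hT (1 : P)
    rw [show ((Nat.card k : ℚ) ^ d)⁻¹ = (((p ^ e : ℕ) : ℚ) ^ d)⁻¹ by rw [he], ← hmass]
    let eS : (⊤ : Subgroup P) ≃* MulAction.stabilizer (SGA7.pt (K := k) kb ⟶ G) (x j) :=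
      { toFun := fun g => ⟨tG g.1.1, g.1.2⟩
        invFun := fun g => ⟨⟨eΓ.symm g.1, by
          rw [hP, show tG (eΓ.symm g.1) = g.1 from eΓ.apply_symm_apply g.1]
          exact g.2⟩, trivial⟩
        left_inv := fun g => Subtype.ext (Subtype.ext (eΓ.symm_apply_apply g.1.1))
        right_inv := fun g => Subtype.ext (eΓ.apply_symm_apply g.1)
        map_mul' := fun g g' => Subtype.ext (map_mul tG g.1.1 g'.1.1) }
    let eF : Cs (⊤ : Subgroup P) 1 ≃ Stk19b.Count.Fibre f (x j) :=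
      { toFun := fun v => ⟨⟨(tG (c * v.1.1), x j), by
          rw [map_mul, Stk19b.QuotTriv.smulPt_mul, (hP _).1 v.1.2]
          exact hxc⟩, rfl⟩
        invFun := fun q => ⟨⟨c⁻¹ * eΓ.symm q.1.1.1, by
          have hq : Stk19b.Count.frM k k kb ≫ q.1.1.2 = Stk19b.QuotTriv.smulPt aE q.1.1.1 q.1.1.2 := q.1.2
          rw [show q.1.1.2 = x j from q.2, hxc] at hq
          rw [hP, map_mul, map_inv, show tG (eΓ.symm q.1.1.1) = q.1.1.1 from eΓ.apply_symm_apply _,
            Stk19b.QuotTriv.smulPt_mul, ← hq, ← Stk19b.QuotTriv.smulPt_mul, inv_mul_cancel,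
            Stk19b.QuotTriv.smulPt_one]⟩, trivial⟩
        left_inv := fun v => Subtype.ext (Subtype.ext (by
          show c⁻¹ * eΓ.symm (eΓ (c * v.1.1)) = v.1.1
          rw [eΓ.symm_apply_apply, inv_mul_cancel_left]))
        right_inv := fun q => Subtype.ext (Subtype.ext (Prod.ext (by
          show eΓ (c * (c⁻¹ * eΓ.symm q.1.1.1)) = q.1.1.1
          rw [mul_inv_cancel_left, eΓ.apply_symm_apply]) q.2.symm)) }
    have hequiv : ∀ (g : (⊤ : Subgroup P)) (v : Cs (⊤ : Subgroup P) 1), eF (g • v) = eS g • eF v := fun g v => by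
      refine Subtype.ext (Subtype.ext (Prod.ext ?_ ?_))
      · show tG (c * (c⁻¹ * frobPt π₀ g.1.1 * c * v.1.1 * g.1.1⁻¹)) =
          (Stk19b.Count.frM k k kb ≫ tG g.1.1) * tG (c * v.1.1) * (tG g.1.1)⁻¹
        rw [← hfrob, ← map_inv, ← map_mul, ← map_mul]
        congr 1
        group
      · exact ((hP _).1 g.1.2).symm
    refine ⟨?_, (Stk19b.Count.mass_congr eS eF hequiv).symm⟩
    haveI := hforb
    refine Finite.of_surjective (Quotient.map (sa := MulAction.orbitRel (⊤ : Subgroup P) (Cs (⊤ : Subgroup P) 1))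
      (sb := MulAction.orbitRel (MulAction.stabilizer (SGA7.pt (K := k) kb ⟶ G) (x j)) (Stk19b.Count.Fibre f (x j)))
      eF (fun a b => ?_)) ?_
    · rintro ⟨g, hg⟩
      exact ⟨eS g, ((hequiv g b).symm.trans (congrArg eF hg))⟩
    · rintro ⟨q⟩
      exact ⟨Quotient.mk _ (eF.symm q), congrArg (Quotient.mk _) (eF.apply_symm_apply q)⟩
  haveI : ∀ j, Finite (MulAction.orbitRel.Quotient (MulAction.stabilizer (SGA7.pt (K := k) kb ⟶ G) (x j))
        (Stk19b.Count.Fibre f (x j))) := fun j => (hfib j).1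
  haveI hfinQ : Finite (MulAction.orbitRel.Quotient (SGA7.pt (K := k) kb ⟶ G) (Stk19b.Count.Pairs k kb aE)) := by
    refine Finite.of_surjective
      (fun y : Σ j, MulAction.orbitRel.Quotient (MulAction.stabilizer (SGA7.pt (K := k) kb ⟶ G) (x j))
          (Stk19b.Count.Fibre f (x j)) =>
        Quotient.map (sb := MulAction.orbitRel (SGA7.pt (K := k) kb ⟶ G) (Stk19b.Count.Pairs k kb aE)) Subtype.val
          (by rintro a b ⟨g, hg⟩; exact ⟨g.1, congrArg Subtype.val hg⟩) y.2) ?_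
    rintro ⟨q⟩
    obtain ⟨j, g, hg⟩ := hex q
    exact ⟨⟨j, Quotient.mk _ ⟨g⁻¹ • q, by rw [map_smul, ← hg, inv_smul_smul]⟩⟩, Quotient.sound ⟨g⁻¹, rfl⟩⟩
  refine ⟨hfinQ, ?_⟩
  rw [Stk19b.Count.mass_eq_sum f x hex hinj, Finset.sum_congr rfl (fun j _ => (hfib j).2), Finset.sum_const,
    Finset.card_univ, nsmul_eq_mul]

end Groth.Agent.UnipCount19
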