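import Groth.Agent.UnipCount19.RepMass

/-! A subgroup with connected unipotent subgroup of finite index has mass `q^(-d)` under twisted conjugation. -/

set_option autoImplicit false
set_option linter.style.haveILetI false
set_option linter.unusedSectionVars false
set_option maxHeartbeats 1000000

universe u

open TensorProduct WithConv HopfRep Groth.Agent.HopfLib Groth.Agent.HopfQuot MulAction Groth.Agent.Stk19b.Count

noncomputable section

namespace Groth.Agent.UnipCount19

section FiniteIndex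

variable {U : Type*} [Group U] {θ : U →* U} (V : Subgroup U) [Finite (U ⧸ V)]

/-- The mass is not changed by passing to a subgroup of finite index all whose twists have that mass. -/
theorem hasMass_of_finiteIndex (hfin : ∀ a : U, Finite {g : U // θ g * a * g⁻¹ = a})
    (hinv : ∀ a : U, ∀ v ∈ V, a⁻¹ * θ v * a ∈ V) (m : ℚ)
    (h : ∀ (a : U) (θa : V →* V), (∀ v, (θa v : U) = a⁻¹ * θ v * a) →
      ∀ hV : Inv θa (⊤ : Subgroup V), HasMass hV m)
    (hT : Inv θ (⊤ : Subgroup U)) : HasMass hT m := by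
  classical
  intro b
  letI := csAction hT b
  let P := Cs (⊤ : Subgroup U) b
  let K : Subgroup (⊤ : Subgroup U) := V.comap (Subgroup.subtype ⊤)
  let eQ : (⊤ : Subgroup U) ⧸ K ≃ U ⧸ V :=
    Equiv.ofBijective (Quotient.map' (fun g => g.1) (fun g g' hg => by
      rw [QuotientGroup.leftRel_apply] at hg ⊢
      exact hg)) ⟨by
        rintro ⟨g⟩ ⟨g'⟩ hg
        exact Quotient.sound (QuotientGroup.leftRel_apply.2 (QuotientGroup.leftRel_apply.1 (Quotient.exact hg) :)), by
        rintro ⟨g⟩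
        exact ⟨QuotientGroup.mk ⟨g, trivial⟩, rfl⟩⟩
  haveI : Finite ((⊤ : Subgroup U) ⧸ K) := Finite.of_equiv _ eQ.symm
  haveI := Fintype.ofFinite (U ⧸ V)
  letI : MulAction K (U ⧸ V) :=
    { smul := fun _ y => y
      one_smul := fun _ => rfl
      mul_smul := fun _ _ _ => rfl }
  let f : P →[K] U ⧸ V := ⟨fun x => QuotientGroup.mk x.1, fun g x => by
    show QuotientGroup.mk (θ g.1.1 * x.1 * g.1.1⁻¹) = QuotientGroup.mk x.1
    rw [QuotientGroup.eq]
    have e : (θ g.1.1 * x.1 * g.1.1⁻¹)⁻¹ * x.1 = g.1.1 * (x.1⁻¹ * θ g.1.1 * x.1)⁻¹ := by group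
    rw [e]
    exact V.mul_mem g.2 (V.inv_mem (hinv x.1 _ g.2))⟩
  let θa : U → (V →* V) := fun a => MonoidHom.mk' (fun v => ⟨a⁻¹ * θ v.1 * a, hinv a _ v.2⟩) fun v w =>
    Subtype.ext (by show a⁻¹ * θ (v.1 * w.1) * a = a⁻¹ * θ v.1 * a * (a⁻¹ * θ w.1 * a); rw [map_mul]; group)
  have hfib : ∀ c : U ⧸ V, Finite (orbitRel.Quotient (stabilizer K c) (Fibre f c)) ∧
      mass (stabilizer K c) (Fibre f c) = m := by
    intro c
    let a : U := c.out
    have hV : Inv (θa a) (⊤ : Subgroup V) := ⟨fun _ _ _ => trivial, fun _ _ => trivial⟩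
    obtain ⟨hf, hm⟩ := h a (θa a) (fun v => rfl) hV 1
    letI := csAction hV (1 : V)
    let eΓ : stabilizer K c ≃* (⊤ : Subgroup V) :=
      { toFun := fun g => ⟨⟨g.1.1.1, g.1.2⟩, trivial⟩
        invFun := fun g => ⟨⟨⟨g.1.1, trivial⟩, g.1.2⟩, rfl⟩
        left_inv := fun g => rfl
        right_inv := fun g => rfl
        map_mul' := fun g g' => rfl }
    have hmem : ∀ x : Fibre f c, a⁻¹ * x.1.1 ∈ V := fun x =>
      QuotientGroup.eq.1 ((QuotientGroup.out_eq' c).trans x.2.symm)
    let eP : Fibre f c ≃ Cs (⊤ : Subgroup V) 1 :=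
      { toFun := fun x => ⟨⟨a⁻¹ * x.1.1, hmem x⟩, trivial⟩
        invFun := fun y => ⟨⟨a * y.1.1, trivial⟩, by
          show QuotientGroup.mk (a * y.1.1) = c
          refine ((QuotientGroup.eq).2 ?_).trans (QuotientGroup.out_eq' c)
          rw [_root_.mul_inv_rev, mul_assoc, inv_mul_cancel, mul_one]
          exact V.inv_mem y.1.2⟩
        left_inv := fun x => Subtype.ext (Subtype.ext (mul_inv_cancel_left a x.1.1))
        right_inv := fun y => Subtype.ext (Subtype.ext (inv_mul_cancel_left a y.1.1)) }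
    have he : ∀ (g : stabilizer K c) (x : Fibre f c), eP (g • x) = eΓ g • eP x := fun g x => Subtype.ext (Subtype.ext (by
      show a⁻¹ * (θ g.1.1.1 * x.1.1 * g.1.1.1⁻¹) = a⁻¹ * θ g.1.1.1 * a * (a⁻¹ * x.1.1) * g.1.1.1⁻¹
      group))
    refine ⟨?_, (mass_congr eΓ eP he).trans hm⟩
    haveI := hf
    refine Finite.of_injective (Quotient.map (sa := orbitRel (stabilizer K c) _) (sb := orbitRel (⊤ : Subgroup V) (Cs (⊤ : Subgroup V) 1)) eP
      (fun x y => ?_)) ?_
    · rintro ⟨g, hg⟩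
      exact ⟨eΓ g, ((he g y).symm.trans (congrArg eP hg))⟩
    · rintro ⟨x⟩ ⟨y⟩ hxy
      obtain ⟨g, hg : g • eP y = eP x⟩ := Quotient.exact hxy
      exact Quotient.sound ⟨eΓ.symm g, eP.injective (by rw [he, eΓ.apply_symm_apply]; exact hg)⟩
  haveI : ∀ c, Finite (orbitRel.Quotient (stabilizer K c) (Fibre f c)) := fun c => (hfib c).1
  haveI : Finite (orbitRel.Quotient K P) := by
    refine Finite.of_surjective
      (fun x : Σ c : U ⧸ V, orbitRel.Quotient (stabilizer K c) (Fibre f c) =>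
        Quotient.map Subtype.val (by rintro p p' ⟨g, hg⟩; exact ⟨g.1, congrArg Subtype.val hg⟩) x.2) ?_
    rintro ⟨x⟩
    exact ⟨⟨f x, Quotient.mk _ ⟨x, rfl⟩⟩, rfl⟩
  have hst : ∀ x : P, Finite (stabilizer (⊤ : Subgroup U) x) := fun x => by
    haveI := hfin x.1
    exact Finite.of_injective
      (fun g : stabilizer (⊤ : Subgroup U) x => (⟨g.1.1, congrArg (fun y : P => y.1) g.2⟩ :
        {g : U // θ g * x.1 * g⁻¹ = x.1}))
      fun g g' h => Subtype.ext (Subtype.ext (congrArg Subtype.val h :))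
  refine ⟨Finite.of_surjective (Quotient.map (sa := orbitRel K P) (sb := orbitRel (⊤ : Subgroup U) P) id
    (by rintro x y ⟨g, hg⟩; exact ⟨g.1, hg⟩)) (by rintro ⟨x⟩; exact ⟨Quotient.mk _ x, rfl⟩), ?_⟩
  have h1 : mass K P = (Nat.card (U ⧸ V) : ℚ) * m := by
    rw [mass_eq_sum f id (fun p => ⟨f p, 1, one_smul _ _⟩) (fun c c' g hg => hg)]
    simp only [id_eq]
    rw [Finset.sum_congr rfl (fun c _ => (hfib c).2), Finset.sum_const, Finset.card_univ,
      ← Nat.card_eq_fintype_card, nsmul_eq_mul]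
  rw [mass_subgroup K hst, Nat.card_congr eQ] at h1
  exact mul_left_cancel₀ (by exact_mod_cast Nat.card_pos.ne') h1

end FiniteIndex

section Closed

variable {k : Type u} [Field k] {A : Type u} [CommRing A] [HopfAlgebra k A] {K : Type u} [Field K] [Algebra k K]

/-- A set cut out by functions on the geometric group. -/
def IsCl (s : Set (Pt k A K)) : Prop := ∃ I : Set (K ⊗[k] A), ∀ g, g ∈ s ↔ ∀ z ∈ I, evK g z = 0

theorem evK_trans (g c : Pt k A K) (z : K ⊗[k] A) : evK g (trans c z) = evK (g * c) z := by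
  induction z using TensorProduct.induction_on with
  | zero => simp
  | add x y hx hy => simp only [map_add, hx, hy]
  | tmul r a =>
    rw [trans_tmul, map_smul, evK_tmul, HopfQuot.mul_apply, smul_eq_mul]
    congr 1
    generalize CoalgebraStruct.comul (R := k) a = t
    induction t using TensorProduct.induction_on with
    | zero => simp
    | add x y hx hy => simp only [map_add, hx, hy]
    | tmul x b => rw [swapEval_tmul, evK_tmul, Algebra.TensorProduct.lift_tmul, _root_.mul_comm]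

/-- Left translation of functions. -/
def transL (a : Pt k A K) : K ⊗[k] A →ₗ[K] K ⊗[k] A :=
  (a.ofConv.toLinearMap.rTensor A ∘ₗ CoalgebraStruct.comul (R := k) (A := A)).liftBaseChange K

theorem evK_transL (g a : Pt k A K) (z : K ⊗[k] A) : evK g (transL a z) = evK (a * g) z := by
  induction z using TensorProduct.induction_on with
  | zero => simp
  | add x y hx hy => simp only [map_add, hx, hy]
  | tmul r x =>
    rw [transL, LinearMap.liftBaseChange_tmul, map_smul, evK_tmul, HopfQuot.mul_apply, smul_eq_mul]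
    congr 1
    show evK g (a.ofConv.toLinearMap.rTensor A (CoalgebraStruct.comul (R := k) x)) = _
    generalize CoalgebraStruct.comul (R := k) x = t
    induction t using TensorProduct.induction_on with
    | zero => simp
    | add x y hx hy => simp only [map_add, hx, hy]
    | tmul x b => rw [LinearMap.rTensor_tmul, evK_tmul, Algebra.TensorProduct.lift_tmul]; rfl

theorem IsCl.mulLeft {s : Set (Pt k A K)} (hs : IsCl s) (a : Pt k A K) : IsCl {g | a * g ∈ s} := by
  obtain ⟨I, hI⟩ := hs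
  exact ⟨transL a '' I, fun g => (hI _).trans ⟨by rintro h _ ⟨z, hz, rfl⟩; rw [evK_transL]; exact h z hz,
    fun h z hz => by rw [← evK_transL]; exact h _ ⟨z, hz, rfl⟩⟩⟩

theorem IsCl.mulRight {s : Set (Pt k A K)} (hs : IsCl s) (a : Pt k A K) : IsCl {g | g * a ∈ s} := by
  obtain ⟨I, hI⟩ := hs
  exact ⟨trans a '' I, fun g => (hI _).trans ⟨by rintro h _ ⟨z, hz, rfl⟩; rw [evK_trans]; exact h z hz,
    fun h z hz => by rw [← evK_trans]; exact h _ ⟨z, hz, rfl⟩⟩⟩

/-- An automorphism of the coefficients acting on points. -/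
def frobPt (F : K ≃ₐ[k] K) : Pt k A K →* Pt k A K :=
  MonoidHom.mk' (fun g => toConv ((F : K →ₐ[k] K).comp g.ofConv)) fun g h => by
    apply ofConv_injective
    refine AlgHom.ext fun x => ?_
    show F ((g * h).ofConv x) = _
    rw [HopfQuot.mul_apply, HopfQuot.mul_apply]
    generalize CoalgebraStruct.comul (R := k) x = t
    induction t using TensorProduct.induction_on with
    | zero => simp
    | add x y hx hy => simp only [map_add, hx, hy]
    | tmul x b => simp

theorem evK_frobPt (F : K ≃ₐ[k] K) (g : Pt k A K) (z : K ⊗[k] A) :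
    evK g (coeffMap A (F.symm : K →ₐ[k] K) z) = F.symm (evK (frobPt F g) z) := by
  induction z using TensorProduct.induction_on with
  | zero => simp
  | add x y hx hy => simp only [map_add, hx, hy]
  | tmul r x =>
    show evK g (F.symm r ⊗ₜ[k] x) = _
    rw [evK_tmul, evK_tmul, map_mul]
    show _ = F.symm r * F.symm (F (g.ofConv x))
    rw [F.symm_apply_apply]

theorem IsCl.frob {s : Set (Pt k A K)} (hs : IsCl s) (F : K ≃ₐ[k] K) : IsCl {g | frobPt F g ∈ s} := by
  obtain ⟨I, hI⟩ := hs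
  refine ⟨coeffMap A (F.symm : K →ₐ[k] K) '' I, fun g => (hI _).trans ⟨?_, fun h z hz => ?_⟩⟩
  · rintro h _ ⟨z, hz, rfl⟩
    rw [evK_frobPt, h z hz, map_zero]
  · have := h _ ⟨z, hz, rfl⟩
    rwa [evK_frobPt, map_eq_zero] at this

variable [IsAlgClosed K] {B : Type u} [CommRing B] [HopfAlgebra K B] [Algebra.FiniteType K B] [IsDomain B]

omit [HopfAlgebra K B] in
theorem exists_pt_ne_zero [Algebra K B] [Algebra.FiniteType K B] {b : B} (hb : b ≠ 0) :
    ∃ y : B →ₐ[K] K, y b ≠ 0 := by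
  obtain ⟨g, hg0, hg⟩ := exists_generic_lift (K := K) (R := B) (B := Localization.Away b)
    (IsScalarTower.toAlgHom K B (Localization.Away b))
    (IsLocalization.injective (Localization.Away b) (powers_le_nonZeroDivisors_of_noZeroDivisors hb))
  haveI : Nontrivial (Localization.Away b) :=
    (IsLocalization.injective (Localization.Away b) (powers_le_nonZeroDivisors_of_noZeroDivisors hb)).nontrivial
  obtain ⟨y, -⟩ := HopfLib.exists_algHom_le_ker (k := K) (bot_ne_top (α := Ideal (Localization.Away b)))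
  refine ⟨y.comp (IsScalarTower.toAlgHom K B (Localization.Away b)), fun h => ?_⟩
  exact (((IsLocalization.Away.algebraMap_isUnit b).map y).ne_zero) h

variable (π : K ⊗[k] A →ₐc[K] B) {V : Subgroup (Pt k A K)}

/-- An irreducible closed subgroup lies in every closed subgroup meeting it with finite index. -/
theorem le_of_finite_index (hV : ∀ y : B →ₐ[K] K, ∃ g ∈ V, ∀ z, evK g z = y (π z))
    (hV' : ∀ g ∈ V, ∃ y : B →ₐ[K] K, ∀ z, evK g z = y (π z))
    {Q : Subgroup (Pt k A K)} (hQ : IsCl (Q : Set (Pt k A K))) [Finite (V ⧸ Q.subgroupOf V)] : V ≤ Q := by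
  classical
  haveI := Fintype.ofFinite (V ⧸ Q.subgroupOf V)
  by_contra hne
  have hex : ∀ c : V ⧸ Q.subgroupOf V, ∃ z : K ⊗[k] A, π z ≠ 0 ∧
      ∀ g : V, (QuotientGroup.mk g : V ⧸ Q.subgroupOf V) = c → evK g.1 z = 0 := by
    intro c
    obtain ⟨I, hI⟩ := hQ.mulLeft (c.out.1)⁻¹
    by_cases h : ∀ z ∈ I, π z = 0
    · refine absurd (fun g hg => ?_) hne
      have hall : ∀ g ∈ V, (c.out.1)⁻¹ * g ∈ Q := fun g hg => (hI g).2 fun z hz => by
        obtain ⟨y, hy⟩ := hV' g hg
        rw [hy, h z hz, map_zero]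
      have h1 := Q.mul_mem (Q.inv_mem (hall 1 V.one_mem)) (hall g hg)
      simpa [mul_assoc] using h1
    · push Not at h
      obtain ⟨z, hz, hπz⟩ := h
      refine ⟨z, hπz, fun g hg => ?_⟩
      have h0 := QuotientGroup.eq.1 ((QuotientGroup.out_eq' c).trans hg.symm)
      exact (hI g.1).1 h0 z hz
  choose z hz hz' using hex
  obtain ⟨y, hy⟩ := exists_pt_ne_zero (K := K) (B := B) (b := ∏ c, π (z c))
    (Finset.prod_ne_zero_iff.2 fun c _ => hz c)
  obtain ⟨g, hg, hgy⟩ := hV y
  rw [map_prod, Finset.prod_ne_zero_iff] at hy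
  exact hy (QuotientGroup.mk ⟨g, hg⟩) (Finset.mem_univ _) (by rw [← hgy]; exact hz' _ ⟨g, hg⟩ rfl)

/-- The twisted mass of a group with connected unipotent subgroup of finite index. -/
theorem hasMass_twisted [Algebra.FiniteType k A] {p e : ℕ} [Fact p.Prime] [CharP K p] (hq : 2 ≤ p ^ e)
    (F : K ≃ₐ[k] K) (hF : ∀ x, F x = x ^ p ^ e) (hπ : Function.Surjective π)
    (hB : HopfRep.IsUnipotent K B) (d : ℕ) (hd : ringKrullDim B = (d : WithBot ℕ∞))
    (P : Subgroup (Pt k A K)) (hVP : V ≤ P) [Finite (P ⧸ V.subgroupOf P)]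
    (hV : ∀ y : B →ₐ[K] K, ∃ g ∈ V, ∀ z, evK g z = y (π z))
    (hV' : ∀ g ∈ V, ∃ y : B →ₐ[K] K, ∀ z, evK g z = y (π z))
    (c : Pt k A K) (hc : ∀ g, c⁻¹ * frobPt F g * c ∈ P ↔ g ∈ P)
    (θ : P →* P) (hθ : ∀ g : P, (θ g).1 = c⁻¹ * frobPt F g.1 * c)
    (hfin : ∀ a : Pt k A K, Finite {g : Pt k A K // frobPt F g * a * g⁻¹ = a})
    (hT : Inv θ (⊤ : Subgroup P)) : HasMass hT ((((p ^ e : ℕ) : ℚ) ^ d)⁻¹) := by
  classical
  haveI hVfi : Finite (P ⧸ V.subgroupOf P) := inferInstance
  have hFinv : ∀ g : Pt k A K, frobPt F (frobPt F.symm g) = g := fun g =>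
    ofConv_injective (AlgHom.ext fun x => F.apply_symm_apply (g.ofConv x))
  have hFinv' : ∀ g : Pt k A K, frobPt F.symm (frobPt F g) = g := fun g =>
    ofConv_injective (AlgHom.ext fun x => F.symm_apply_apply (g.ofConv x))
  let tw : Pt k A K → Pt k A K →* Pt k A K := fun c => MonoidHom.mk' (fun g => c⁻¹ * frobPt F g * c)
    fun g h => by rw [map_mul]; group
  let twi : Pt k A K → Pt k A K →* Pt k A K := fun c => MonoidHom.mk' (fun g => frobPt F.symm (c * g * c⁻¹))
    fun g h => by rw [← map_mul]; group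
  have hclV : IsCl (V : Set (Pt k A K)) := ⟨{z | π z = 0}, fun g => ⟨fun hg z hz => by
      obtain ⟨y, hy⟩ := hV' g hg
      rw [hy, show π z = 0 from hz, map_zero], fun h => by
      let π' : K ⊗[k] A →ₐ[K] B := (π : K ⊗[k] A →ₐ[K] B)
      have hker : RingHom.ker π'.toRingHom ≤ RingHom.ker (evK g).toRingHom := fun z hz => h z hz
      obtain ⟨g', hg', e⟩ := hV (AlgHom.liftOfSurjective π' hπ (evK g) hker)
      have h2 : g' = g := evK_injective (AlgHom.ext fun z =>
        (e z).trans (AlgHom.liftOfSurjective_apply π' hπ (evK g) hker z))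
      exact h2 ▸ hg'⟩⟩
  have hpres : ∀ c : Pt k A K, (∀ g, tw c g ∈ P ↔ g ∈ P) →
      ∀ v, v ∈ V ↔ tw c v ∈ V := by
    intro c hc
    have h1 : ∀ (f : Pt k A K →* Pt k A K), IsCl ((V.comap f : Subgroup _) : Set (Pt k A K)) →
        (∀ g ∈ P, f g ∈ P) → V ≤ V.comap f := by
      intro f hcl hfP
      haveI : Finite (V ⧸ (V.comap f).subgroupOf V) := by
        let Φ : V ⧸ (V.comap f).subgroupOf V → P ⧸ V.subgroupOf P :=
          Quotient.map' (fun v => ⟨f v.1, hfP _ (hVP v.2)⟩) fun v w hvw => by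
            rw [QuotientGroup.leftRel_apply] at hvw ⊢
            show (f v.1)⁻¹ * f w.1 ∈ V
            rw [← map_inv, ← map_mul]
            exact hvw
        refine Finite.of_injective Φ ?_
        rintro ⟨v⟩ ⟨w⟩ hvw
        refine Quotient.sound (QuotientGroup.leftRel_apply.2 ?_)
        have h := QuotientGroup.leftRel_apply.1 (Quotient.exact hvw)
        change (f v.1)⁻¹ * f w.1 ∈ V at h
        rwa [← map_inv, ← map_mul] at h
      exact le_of_finite_index π hV hV' hcl
    intro v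
    refine ⟨fun hv => h1 (tw c) (((hclV.mulRight c).mulLeft c⁻¹).frob F) (fun g hg => (hc g).2 hg) hv, fun hv => ?_⟩
    have h2 := h1 (twi c) (((hclV.frob F.symm).mulRight c⁻¹).mulLeft c) (fun g hg => (hc _).1 (by
      show c⁻¹ * frobPt F (frobPt F.symm (c * g * c⁻¹)) * c ∈ P
      rw [hFinv]
      simpa [mul_assoc] using hg)) hv
    change frobPt F.symm (c * (c⁻¹ * frobPt F v * c) * c⁻¹) ∈ V at h2
    rw [show c * (c⁻¹ * frobPt F v * c) * c⁻¹ = frobPt F v by group, hFinv'] at h2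
    exact h2
  have hca : ∀ a : P, ∀ g, tw (c * a.1) g ∈ P ↔ g ∈ P := fun a g => by
    have e : tw (c * a.1) g = a.1⁻¹ * (c⁻¹ * frobPt F g * c) * a.1 := by
      show (c * a.1)⁻¹ * frobPt F g * (c * a.1) = _
      group
    rw [e, P.mul_mem_cancel_right a.2, P.mul_mem_cancel_left (P.inv_mem a.2), hc]
  have hfinP : ∀ a : P, Finite {g : P // θ g * a * g⁻¹ = a} := fun a => by
    haveI := hfin (c * a.1)
    refine Finite.of_injective
      (fun g : {g : P // θ g * a * g⁻¹ = a} =>
        (⟨g.1.1, ?_⟩ : {g : Pt k A K // frobPt F g * (c * a.1) * g⁻¹ = c * a.1}))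
      fun g g' h => Subtype.ext (Subtype.ext (congrArg Subtype.val h :))
    have h : (θ g.1).1 * a.1 * g.1.1⁻¹ = a.1 := congrArg Subtype.val g.2
    rw [hθ] at h
    conv_rhs => rw [← h]
    group
  have hconj : ∀ (a : P) (v : P), a⁻¹ * θ v * a = (⟨tw (c * a.1) v.1, (hca a v.1).2 v.2⟩ : P) := fun a v =>
    Subtype.ext (by
      show a.1⁻¹ * (θ v).1 * a.1 = (c * a.1)⁻¹ * frobPt F v.1 * (c * a.1)
      rw [hθ]
      group)
  refine hasMass_of_finiteIndex (V.subgroupOf P) hfinP (fun a v hv => ?_) _ (fun a θa hθa hVT => ?_) hT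
  · rw [hconj, Subgroup.mem_subgroupOf]
    exact (hpres _ (hca a) v.1).1 hv
  -- the connected subgroup
  have hmem : ∀ y : Pt K B K, ∃! g : V.subgroupOf P, ∀ z, evK g.1.1 z = y.ofConv (π z) := fun y => by
    obtain ⟨g, hg, hgy⟩ := hV y.ofConv
    refine ⟨⟨⟨g, hVP hg⟩, hg⟩, hgy, fun g' hg' => Subtype.ext (Subtype.ext ?_)⟩
    exact evK_injective (AlgHom.ext fun z => (hg' z).trans (hgy z).symm)
  choose inv hinv' huniq using hmem
  choose y hy using fun g : V.subgroupOf P => hV' g.1.1 g.2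
  let evU : V.subgroupOf P ≃ Pt K B K :=
    { toFun := fun g => toConv (y g)
      invFun := inv
      left_inv := fun g => (huniq (toConv (y g)) g (hy g)).symm
      right_inv := fun w => by
        apply ofConv_injective
        refine AlgHom.ext fun b => ?_
        obtain ⟨z, rfl⟩ := hπ b
        exact (hy _ z).symm.trans (hinv' w z) }
  let j : V.subgroupOf P →* Pt k A K := P.subtype.comp (V.subgroupOf P).subtype
  have hθa' : ∀ v, j (θa v) = tw (c * a.1) (j v) := fun v =>
    congrArg Subtype.val ((hθa v).trans (hconj a v.1))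
  refine mass_twisted_unipotent (p := p) (e := e) hq (F : K →ₐ[k] K) hF π hπ hB d hd evU j hy θa ?_
    (c * a.1) (c * a.1)⁻¹ (mul_inv_cancel _) hθa' ?_ hVT
  · intro v
    have hw : twi (c * a.1) v.1.1 ∈ V := (hpres _ (hca a) _).2 (by
      show (c * a.1)⁻¹ * frobPt F (frobPt F.symm (c * a.1 * v.1.1 * (c * a.1)⁻¹)) * (c * a.1) ∈ V
      rw [hFinv, show (c * a.1)⁻¹ * (c * a.1 * v.1.1 * (c * a.1)⁻¹) * (c * a.1) = v.1.1 by group]
      exact v.2)
    refine ⟨⟨⟨_, hVP hw⟩, hw⟩, Subtype.ext (Subtype.ext ?_)⟩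
    refine (hθa' _).trans ?_
    show (c * a.1)⁻¹ * frobPt F (frobPt F.symm (c * a.1 * v.1.1 * (c * a.1)⁻¹)) * (c * a.1) = v.1.1
    rw [hFinv]
    group
  · intro b
    haveI := hfinP (a * b.1)
    refine Finite.of_injective
      (fun g : {g : V.subgroupOf P // θa g * b * g⁻¹ = b} =>
        (⟨g.1.1, ?_⟩ : {g : P // θ g * (a * b.1) * g⁻¹ = a * b.1}))
      fun g g' h => Subtype.ext (Subtype.ext (congrArg Subtype.val h :))
    have h : (θa g.1).1 * b.1 * g.1.1⁻¹ = b.1 := congrArg Subtype.val g.2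
    rw [hθa] at h
    conv_rhs => rw [← h]
    group

end Closed

end Groth.Agent.UnipCount19
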