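import Groth.Agent.UnipCount19.Mass
import Groth.Agent.DimLib.Algebra
import Groth.Agent.HopfLib.GITPoints
import Mathlib.RingTheory.Spectrum.Prime.Chevalley
import Mathlib.RingTheory.Spectrum.Prime.Jacobson
import Mathlib.RingTheory.FinitePresentation
import Mathlib.RingTheory.Ideal.MinimalPrime.Localization
import Mathlib.Algebra.MvPolynomial.Funext

/-! Fixed points of a Frobenius on an irreducible unitriangular algebraic group. -/

set_option autoImplicit false
set_option linter.style.haveILetI false
set_option linter.unusedSectionVars false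

universe u v

open Polynomial

namespace Groth.Agent.UnipCount19

variable {K : Type u} [Field K] [IsAlgClosed K]

/-- A constructible set containing the generic point contains a neighbourhood of it. -/
theorem exists_open_of_mem {R : Type u} [CommRing R] [IsDomain R] {s : Set (PrimeSpectrum R)}
    (hs : Topology.IsConstructible s) (hη : (⟨⊥, Ideal.isPrime_bot⟩ : PrimeSpectrum R) ∈ s) :
    ∃ O, IsOpen O ∧ (⟨⊥, Ideal.isPrime_bot⟩ : PrimeSpectrum R) ∈ O ∧ O ⊆ s := by
  revert hη
  induction s, hs using BooleanSubalgebra.closure_sdiff_sup_induction with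
  | isSublattice =>
    exact ⟨fun s hs t ht ↦ ⟨hs.1.union ht.1, hs.2.union ht.2⟩,
      fun s hs t ht ↦ ⟨hs.1.inter ht.1, hs.2.inter_isOpen ht.2 ht.1⟩⟩
  | bot_mem => exact ⟨isOpen_empty, .empty⟩
  | top_mem => exact ⟨isOpen_univ, .univ⟩
  | sdiff U hU V hV =>
    rintro ⟨hηU, hηV⟩
    refine ⟨U, hU.1, hηU, fun y hy => ⟨hy, fun hyV => hηV ?_⟩⟩
    exact ((PrimeSpectrum.le_iff_specializes _ y).1 (show (⊥ : Ideal R) ≤ y.asIdeal from bot_le)).mem_open hV.1 hyV
  | sup s _ t _ hs ht =>
    rintro (h | h)
    · obtain ⟨O, h1, h2, h3⟩ := hs h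
      exact ⟨O, h1, h2, h3.trans Set.subset_union_left⟩
    · obtain ⟨O, h1, h2, h3⟩ := ht h
      exact ⟨O, h1, h2, h3.trans Set.subset_union_right⟩

/-- Most points of the image of a dominant map lift. -/
theorem exists_generic_lift {R B : Type u} [CommRing R] [IsDomain R] [Algebra K R] [Algebra.FiniteType K R]
    [CommRing B] [Algebra K B] [Algebra.FiniteType K B] (φ : R →ₐ[K] B) (hφ : Function.Injective φ) :
    ∃ g : R, g ≠ 0 ∧ ∀ x : R →ₐ[K] K, x g ≠ 0 → ∃ y : B →ₐ[K] K, y.comp φ = x := by
  haveI : IsNoetherianRing R := Algebra.FiniteType.isNoetherianRing K R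
  haveI : IsNoetherianRing B := Algebra.FiniteType.isNoetherianRing K B
  have hft : φ.toRingHom.FiniteType := by
    refine RingHom.FiniteType.of_comp_finiteType (f := algebraMap K R) ?_
    rw [show φ.toRingHom.comp (algebraMap K R) = algebraMap K B from RingHom.ext φ.commutes]
    exact RingHom.finiteType_algebraMap.2 inferInstance
  have hfp : φ.toRingHom.FinitePresentation := (RingHom.FinitePresentation.of_finiteType).1 hft
  have hc : Topology.IsConstructible (Set.range (PrimeSpectrum.comap φ.toRingHom)) :=
    PrimeSpectrum.isConstructible_range_comap hfp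
  let η : PrimeSpectrum R := ⟨⊥, Ideal.isPrime_bot⟩
  have hη : η ∈ Set.range (PrimeSpectrum.comap φ.toRingHom) := by
    obtain ⟨P, hP, hPeq⟩ := Ideal.exists_comap_eq_of_mem_minimalPrimes_of_injective (f := φ.toRingHom) hφ ⊥
      (by simp [Ideal.minimalPrimes_eq_subsingleton_self (I := (⊥ : Ideal R))] )
    exact ⟨⟨P, hP⟩, PrimeSpectrum.ext hPeq⟩
  obtain ⟨O, hO, hηO, hOs⟩ := exists_open_of_mem hc hη
  obtain ⟨_, ⟨g, rfl⟩, hg, hgO⟩ := PrimeSpectrum.isTopologicalBasis_basic_opens.exists_subset_of_mem_open hηO hO
  refine ⟨g, fun h => hg (by simp [η, h]), fun x hx => ?_⟩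
  let P : PrimeSpectrum R := ⟨RingHom.ker x.toRingHom, RingHom.ker_isPrime _⟩
  obtain ⟨Q, hQ⟩ := hOs (hgO (show P ∈ PrimeSpectrum.basicOpen g from hx))
  obtain ⟨y, hy⟩ := HopfLib.exists_algHom_le_ker (k := K) Q.isPrime.ne_top
  refine ⟨y, AlgHom.ext fun r => ?_⟩
  have h1 : r - algebraMap K R (x r) ∈ P.asIdeal := by
    show x (r - algebraMap K R (x r)) = 0
    rw [map_sub, AlgHom.commutes, Algebra.algebraMap_self_apply, sub_self]
  rw [← hQ] at h1
  have h2 : y (φ (r - algebraMap K R (x r))) = 0 := hy h1
  rw [map_sub, map_sub, AlgHom.commutes, AlgHom.commutes, Algebra.algebraMap_self_apply, sub_eq_zero] at h2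
  exact h2

/-- The values of a function on an affine set are finitely many or almost all. -/
theorem finite_or_cofinite_values {B : Type u} [CommRing B] [Algebra K B] [Algebra.FiniteType K B] (b : B) :
    (Set.range fun y : B →ₐ[K] K => y b).Finite ∨ (Set.range fun y : B →ₐ[K] K => y b)ᶜ.Finite := by
  classical
  by_cases h : Function.Injective (Polynomial.aeval b : K[X] →ₐ[K] B)
  · obtain ⟨g, hg0, hg⟩ := exists_generic_lift (K := K) (Polynomial.aeval b) h
    refine Or.inr (g.roots.toFinset.finite_toSet.subset fun t ht => ?_)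
    rw [Finset.mem_coe, Multiset.mem_toFinset, Polynomial.mem_roots hg0]
    by_contra hne
    obtain ⟨y, hy⟩ := hg (Polynomial.aeval t) (by rw [Polynomial.coe_aeval_eq_eval]; exact hne)
    exact ht ⟨y, by simpa using AlgHom.congr_fun hy X⟩
  · obtain ⟨P, hP, hP0⟩ : ∃ P : K[X], Polynomial.aeval b P = 0 ∧ P ≠ 0 := by
      rw [injective_iff_map_eq_zero] at h
      push Not at h
      exact h
    refine Or.inl (P.roots.toFinset.finite_toSet.subset ?_)
    rintro _ ⟨y, rfl⟩
    rw [Finset.mem_coe, Multiset.mem_toFinset, Polynomial.mem_roots hP0]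
    show P.eval (y b) = 0
    rw [← Polynomial.coe_aeval_eq_eval, Polynomial.aeval_algHom_apply, hP, map_zero]

/-- A subgroup of an infinite group with finite complement is everything. -/
theorem eq_univ_of_cofinite {G : Type u} [AddCommGroup G] [Infinite G] (s : AddSubgroup G)
    (h : ((s : Set G))ᶜ.Finite) : (s : Set G) = Set.univ := by
  rw [Set.eq_univ_iff_forall]
  intro y
  have h2 : ((fun z => y - z) ⁻¹' ((s : Set G))ᶜ).Finite :=
    h.preimage (sub_right_injective (b := y)).injOn
  obtain ⟨z, hz⟩ := (h.union h2).exists_notMem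
  simp only [Set.mem_union, Set.mem_compl_iff, SetLike.mem_coe, Set.mem_preimage, not_or, not_not] at hz
  simpa using s.add_mem hz.1 hz.2

/-- The number of fixed points. -/
theorem card_fixed_unitriangular {U : Type v} [Group U] (θ : U →* U) (q : ℕ)
    (hfr : ∀ x y : K, (x + y) ^ q = x ^ q + y ^ q)
    (hfix : Nat.card {x : K // x ^ q = x} = q) (hq : q ≠ 0) (hroot : ∀ c : K, ∃ t : K, t ^ q - t = c)
    (hfin : ∀ a : U, Finite {g : U // θ g * a * g⁻¹ = a})
    {A : Type u} [CommRing A] [IsDomain A] [Algebra K A] [Algebra.FiniteType K A] (ev : U ≃ (A →ₐ[K] K))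
    (n : ℕ) (M : U → Matrix (Fin n) (Fin n) K) (a : Fin n → Fin n → A) (hM : ∀ u l i, M u l i = ev u (a l i))
    (hinj : Function.Injective M) (hmul : ∀ u v, M (u * v) = M u * M v) (hone : M 1 = 1)
    (htri : ∀ u i l, i ≤ l → M u l i = if l = i then 1 else 0)
    (hθ : ∀ u l i, M (θ u) l i = M u l i ^ q) :
    ∃ e : ℕ, (∀ hT : Inv θ (⊤ : Subgroup U), HasMass hT (((q : ℚ) ^ e)⁻¹)) ∧
      ((∀ a : U, ∃ g : U, θ g * g⁻¹ = a) → Nat.card {g : U // θ g = g} = q ^ e) ∧
      ringKrullDim A = (e : WithBot ℕ∞) := by
  classical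
  let cd : ℕ → A := fun j =>
    if h : 1 ≤ j / n ∧ j % n + j / n < n then a ⟨j % n, by omega⟩ ⟨j % n + j / n, h.2⟩ else 0
  let f : ℕ → U → K := fun j u => ev u (cd j)
  let P : ℕ → U → Prop := fun j u => ∀ s, s < j → f s u = 0
  have hzero : ∀ (d : ℕ) (l i : Fin n) (v : U), P (d * n + l) v → (m : Fin n) → m < i → i.1 - m.1 < d → M v m i = 0 := by
    intro d l i v hv m hm hd
    have h1 : (i.1 - m.1) * n + m.1 < d * n + l := by
      have : (i.1 - m.1 + 1) * n ≤ d * n := Nat.mul_le_mul_right n hd
      rw [Nat.add_mul, Nat.one_mul] at this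
      have := m.2
      omega
    have hd' : ((i.1 - m.1) * n + m.1) / n = i.1 - m.1 := by
      rw [Nat.mul_comm, Nat.mul_add_div (by omega), Nat.div_eq_of_lt m.2, Nat.add_zero]
    have hm' : ((i.1 - m.1) * n + m.1) % n = m.1 := by
      rw [Nat.mul_comm, Nat.mul_add_mod, Nat.mod_eq_of_lt m.2]
    have h2 := hv _ h1
    have h3 : 1 ≤ i.1 - m.1 := by omega
    simp only [f, cd] at h2
    rw [dif_pos (by rw [hd', hm']; omega), ← hM] at h2
    convert h2 using 2
    · exact Fin.ext hm'.symm
    · exact Fin.ext ((show i.1 = m.1 + (i.1 - m.1) by omega).trans (congrArg₂ (· + ·) hm'.symm hd'.symm))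
  have hadd : ∀ s u v, P s v → f s (u * v) = f s u + f s v ∧ f s (v * u) = f s v + f s u := by
    intro s u v hv
    simp only [f, cd]
    by_cases h : 1 ≤ s / n ∧ s % n + s / n < n
    · rw [dif_pos h]
      simp only [← hM, hmul]
      set l : Fin n := ⟨s % n, by omega⟩
      set i : Fin n := ⟨s % n + s / n, h.2⟩
      have hs : s = s / n * n + l := (Nat.div_add_mod' s n).symm
      have hli : l < i := by show s % n < s % n + s / n; omega
      have hne : l ≠ i := hli.ne
      rw [hs] at hv
      constructor
      · rw [Matrix.mul_apply, ← Finset.sum_subset (Finset.subset_univ ({l, i} : Finset (Fin n))) (fun m _ hm => ?_),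
          Finset.sum_pair hne, htri u l l le_rfl, if_pos rfl, htri v i i le_rfl, if_pos rfl, one_mul, mul_one, add_comm]
        simp only [Finset.mem_insert, Finset.mem_singleton, not_or] at hm
        rcases lt_trichotomy m l with hml | hml | hml
        · rw [htri u m l hml.le, if_neg (Ne.symm hm.1), zero_mul]
        · exact absurd hml hm.1
        · rcases lt_trichotomy m i with hmi | hmi | hmi
          · rw [hzero _ l i v hv m hmi (by
              have : s % n < m.1 := hml
              have : m.1 < s % n + s / n := hmi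
              show s % n + s / n - m.1 < s / n
              omega), mul_zero]
          · exact absurd hmi hm.2
          · rw [htri v i m hmi.le, if_neg hm.2, mul_zero]
      · rw [Matrix.mul_apply, ← Finset.sum_subset (Finset.subset_univ ({l, i} : Finset (Fin n))) (fun m _ hm => ?_),
          Finset.sum_pair hne, htri v l l le_rfl, if_pos rfl, htri u i i le_rfl, if_pos rfl, one_mul, mul_one, add_comm]
        simp only [Finset.mem_insert, Finset.mem_singleton, not_or] at hm
        rcases lt_trichotomy m l with hml | hml | hml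
        · rw [htri v m l hml.le, if_neg (Ne.symm hm.1), zero_mul]
        · exact absurd hml hm.1
        · rcases lt_trichotomy m i with hmi | hmi | hmi
          · rw [hzero (s / n) l m v hv l hml (by
              have : s % n < m.1 := hml
              have : m.1 < s % n + s / n := hmi
              show m.1 - s % n < s / n
              omega), zero_mul]
          · exact absurd hmi hm.2
          · rw [htri u i m hmi.le, if_neg hm.2, mul_zero]
    · rw [dif_neg h]
      simp
  have hf1 : ∀ s, f s 1 = 0 := fun s => by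
    simp only [f, cd]
    split_ifs with h
    · rw [← hM, hone, Matrix.one_apply_ne]
      intro e
      have h1 := h.1
      have h2 := congrArg Fin.val e
      change s % n = s % n + s / n at h2
      omega
    · exact map_zero _
  have hPinv : ∀ j u, P j u → P j u⁻¹ := by
    intro j u hu s
    induction s using Nat.strong_induction_on with
    | _ s ih =>
      intro hs
      have h := (hadd s u u⁻¹ (fun s' hs' => ih s' hs' (hs'.trans hs))).1
      rw [mul_inv_cancel, hf1, hu s hs, zero_add] at h
      exact h.symm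
  let V : ℕ → Subgroup U := fun j =>
    { carrier := {u | P j u}
      one_mem' := fun s _ => hf1 s
      mul_mem' := fun {u v} hu hv s hs => by
        rw [(hadd s u v (fun s' hs' => hv s' (hs'.trans hs))).1, hu s hs, hv s hs, add_zero]
      inv_mem' := fun {u} hu => hPinv j u hu }
  have hconj : ∀ j u v, v ∈ V j → f j (u * v * u⁻¹) = f j v := by
    intro j
    induction j using Nat.strong_induction_on with
    | _ j ih =>
      intro u v hv
      have hw : P j (u * v * u⁻¹) := fun s hs => by
        rw [ih s hs u v (fun s' hs' => hv s' (hs'.trans hs)), hv s hs]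
      have h1 := (hadd j u (u * v * u⁻¹) hw).2
      rw [inv_mul_cancel_right, (hadd j u v hv).1, add_comm] at h1
      exact (add_right_cancel h1).symm
  have hN : V (n * n) = ⊥ := (Subgroup.eq_bot_iff_forall _).2 fun u hu => hinj (by
    rw [hone]
    ext l i
    rcases le_or_gt i l with h | h
    · rw [htri u i l h, Matrix.one_apply]
    · rw [Matrix.one_apply_ne h.ne]
      refine hzero n ⟨0, by omega⟩ i u ?_ l h (by omega)
      simpa using (show P (n * n) u from hu))
  let B : ℕ → Type u := fun j => A ⧸ Ideal.span (cd '' {s | s < j})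
  have himg : ∀ j, (f j '' V j).Finite ∨ f j '' V j = Set.univ := by
    intro j
    let I := Ideal.span (cd '' {s | s < j})
    have himage : f j '' V j = Set.range fun y : (A ⧸ I) →ₐ[K] K => y (Ideal.Quotient.mk I (cd j)) := by
      ext t
      constructor
      · rintro ⟨u, hu, rfl⟩
        refine ⟨Ideal.Quotient.liftₐ I (ev u) fun x hx => ?_, rfl⟩
        induction hx using Submodule.span_induction with
        | mem x hx =>
          obtain ⟨s, hs, rfl⟩ := hx
          exact hu s hs
        | zero => simp
        | add x y _ _ h1 h2 => simp [h1, h2]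
        | smul c x _ h => simp [h]
      · rintro ⟨y, rfl⟩
        refine ⟨ev.symm (y.comp (Ideal.Quotient.mkₐ K I)), fun s hs => ?_, ?_⟩
        · show ev (ev.symm _) (cd s) = 0
          rw [Equiv.apply_symm_apply, AlgHom.comp_apply, Ideal.Quotient.mkₐ_eq_mk,
            Ideal.Quotient.eq_zero_iff_mem.2 (Ideal.subset_span (show cd s ∈ cd '' {s | s < j} from ⟨s, hs, rfl⟩) : cd s ∈ I), map_zero]
        · show ev (ev.symm _) (cd j) = _
          rw [Equiv.apply_symm_apply]
          rfl
    haveI : Algebra.FiniteType K (A ⧸ I) :=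
      Algebra.FiniteType.of_surjective (Ideal.Quotient.mkₐ K I) (Ideal.Quotient.mkₐ_surjective K I)
    rcases finite_or_cofinite_values (K := K) (Ideal.Quotient.mk I (cd j)) with h | h
    · exact Or.inl (himage ▸ h)
    · refine Or.inr ?_
      let S : AddSubgroup K :=
        { carrier := f j '' V j
          add_mem' := by
            rintro _ _ ⟨v, hv, rfl⟩ ⟨w, hw, rfl⟩
            exact ⟨v * w, (V j).mul_mem hv hw, (hadd j v w hw).1⟩
          zero_mem' := ⟨1, (V j).one_mem, hf1 j⟩
          neg_mem' := by
            rintro _ ⟨v, hv, rfl⟩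
            refine ⟨v⁻¹, (V j).inv_mem hv, ?_⟩
            have h := (hadd j v v⁻¹ ((V j).inv_mem hv)).1
            rw [mul_inv_cancel, hf1] at h
            exact (neg_eq_of_add_eq_zero_right h.symm).symm }
      exact eq_univ_of_cofinite S (by rw [← himage] at h; exact h)
  have hθf : ∀ j u, f j (θ u) = f j u ^ q := fun j u => by
    simp only [f, cd]
    split_ifs with h
    · rw [← hM, ← hM, hθ]
    · rw [map_zero, map_zero, zero_pow hq]
  have hcard := card_fixed q hfr hfix hq hroot hfin (n * n) V f
    ((Subgroup.eq_top_iff' _).2 fun u s hs => absurd hs (Nat.not_lt_zero s)) hN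
    (fun j _ v => ⟨fun h => ⟨fun s hs => h s (hs.trans (Nat.lt_succ_self j)), h j (Nat.lt_succ_self j)⟩,
      fun h s hs => (Nat.lt_succ_iff_lt_or_eq.1 hs).elim (h.1 s) (fun e => e ▸ h.2)⟩)
    (fun j _ v w _ hw => (hadd j v w hw).1) (fun j _ v _ => hθf j v) (fun j _ u v hv => hconj j u v hv)
    (fun j _ => himg j)
  let J := ((Finset.range (n * n)).filter fun j => ¬ (f j '' V j).Finite)
  refine ⟨J.card, hcard.1, hcard.2, ?_⟩
  have hfull : ∀ j ∈ J, ∀ t, ∃ v ∈ V j, f j v = t := fun j hj t => by
    have h := (himg j).resolve_left (Finset.mem_filter.1 hj).2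
    exact h.ge (Set.mem_univ t)
  let φ : MvPolynomial J K →ₐ[K] A := MvPolynomial.aeval fun j => cd j.1
  have hval : ∀ (u : U) (x : J → K), (∀ j : J, f j.1 u = x j) →
      ∀ P : MvPolynomial J K, ev u (φ P) = MvPolynomial.eval x P := fun u x hx P => by
    show (ev u).comp φ P = _
    rw [MvPolynomial.comp_aeval]
    simp only [show (fun j : J => ev u (cd j.1)) = x from funext hx]
    rfl
  have hsurj : ∀ x : J → K, ∃ u, ∀ j : J, f j.1 u = x j := by
    intro x
    have : ∀ i, ∃ u, ∀ j : J, j.1 < i → f j.1 u = x j := by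
      intro i
      induction i with
      | zero => exact ⟨1, fun j hj => absurd hj (Nat.not_lt_zero _)⟩
      | succ i ih =>
        obtain ⟨u, hu⟩ := ih
        by_cases hi : i ∈ J
        · obtain ⟨v, hv, hvt⟩ := hfull i hi (x ⟨i, hi⟩ - f i u)
          refine ⟨u * v, fun j hj => ?_⟩
          rw [(hadd j.1 u v (fun s hs => hv s (by omega))).1]
          rcases Nat.lt_succ_iff_lt_or_eq.1 hj with h | h
          · rw [hv j.1 h, add_zero, hu j h]
          · obtain rfl : j = ⟨i, hi⟩ := Subtype.ext h
            rw [hvt]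
            ring
        · refine ⟨u, fun j hj => hu j ((Nat.lt_succ_iff_lt_or_eq.1 hj).resolve_right fun h => hi (h ▸ j.2))⟩
    obtain ⟨u, hu⟩ := this (n * n)
    exact ⟨u, fun j => hu j (Finset.mem_range.1 (Finset.mem_filter.1 j.2).1)⟩
  have hfinfib : ∀ x : J → K, {u : U | ∀ j : J, f j.1 u = x j}.Finite := by
    intro x
    have : ∀ i ≤ n * n, ∃ R : Set U, R.Finite ∧
        ∀ u, (∀ j : J, f j.1 u = x j) → ∃ r ∈ R, r⁻¹ * u ∈ V i := by
      intro i
      induction i with
      | zero => exact fun _ => ⟨{1}, Set.finite_singleton 1, fun u _ => ⟨1, rfl, fun s hs => absurd hs (Nat.not_lt_zero s)⟩⟩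
      | succ i ih =>
        intro hi
        obtain ⟨R, hR, hRu⟩ := ih (by omega)
        let T : Set K := if h : i ∈ J then (fun r => x ⟨i, h⟩ - f i r) '' R else f i '' V i
        have hT : T.Finite := by
          by_cases h : i ∈ J
          · simp only [T, dif_pos h]
            exact hR.image _
          · simp only [T, dif_neg h]
            by_contra hinf
            exact h (Finset.mem_filter.2 ⟨Finset.mem_range.2 (by omega), hinf⟩)
        let pick : K → U := fun t => if h : ∃ v ∈ V i, f i v = t then h.choose else 1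
        refine ⟨(fun p => p.1 * pick p.2) '' (R ×ˢ T), (hR.prod hT).image _, fun u hu => ?_⟩
        obtain ⟨r, hr, hru⟩ := hRu u hu
        have hex : ∃ v ∈ V i, f i v = f i (r⁻¹ * u) := ⟨_, hru, rfl⟩
        refine ⟨r * pick (f i (r⁻¹ * u)), ⟨(r, f i (r⁻¹ * u)), ⟨hr, ?_⟩, rfl⟩, ?_⟩
        · show f i (r⁻¹ * u) ∈ T
          by_cases h : i ∈ J
          · simp only [T, dif_pos h]
            refine ⟨r, hr, ?_⟩
            have h1 := (hadd i r (r⁻¹ * u) hru).1
            rw [mul_inv_cancel_left, hu ⟨i, h⟩] at h1
            show x ⟨i, h⟩ - f i r = _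
            rw [h1]
            ring
          · simp only [T, dif_neg h]
            exact ⟨_, hru, rfl⟩
        · simp only [pick, dif_pos hex]
          obtain ⟨hc1, hc2⟩ := hex.choose_spec
          intro s hs
          rw [_root_.mul_inv_rev, mul_assoc]
          have hw : hex.choose⁻¹ * (r⁻¹ * u) ∈ V i := (V i).mul_mem ((V i).inv_mem hc1) hru
          rcases Nat.lt_succ_iff_lt_or_eq.1 hs with h | rfl
          · exact hw s h
          · have h1 := (hadd s hex.choose _ hw).1
            rw [mul_inv_cancel_left, hc2] at h1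
            exact left_eq_add.1 h1
    obtain ⟨R, hR, hRu⟩ := this (n * n) le_rfl
    refine hR.subset fun u hu => ?_
    obtain ⟨r, hr, hru⟩ := hRu u hu
    rw [hN, Subgroup.mem_bot, inv_mul_eq_one] at hru
    exact hru ▸ hr
  have hinjφ : Function.Injective φ := by
    rw [injective_iff_map_eq_zero]
    intro Q hQ
    refine MvPolynomial.funext fun x => ?_
    obtain ⟨u, hu⟩ := hsurj x
    rw [← hval u x hu, hQ, map_zero, map_zero]
  algebraize [φ.toRingHom]
  haveI : IsScalarTower K (MvPolynomial J K) A := IsScalarTower.of_algebraMap_eq fun c => (φ.commutes c).symm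
  haveI : FaithfulSMul (MvPolynomial J K) A := (faithfulSMul_iff_algebraMap_injective _ _).2 hinjφ
  haveI : Algebra.IsAlgebraic (MvPolynomial J K) A := by
    refine ⟨fun t => ?_⟩
    by_contra htr
    let ψ : Polynomial (MvPolynomial J K) →ₐ[K] A := (Polynomial.aeval t).restrictScalars K
    have hψ : Function.Injective ψ := transcendental_iff_injective.1 htr
    obtain ⟨g, hg0, hg⟩ := exists_generic_lift (K := K) ψ hψ
    obtain ⟨x, hx⟩ : ∃ x : J → K, MvPolynomial.eval x g.leadingCoeff ≠ 0 := by
      by_contra h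
      push Not at h
      exact Polynomial.leadingCoeff_ne_zero.2 hg0 (MvPolynomial.funext fun x => by rw [h x, map_zero])
    let gx := g.map (MvPolynomial.eval x)
    have hgx : gx ≠ 0 := fun h => hx (by
      have := congrArg (fun Q : K[X] => Q.coeff g.natDegree) h
      simpa [gx] using this)
    have hinf : ({t' : K | gx.eval t' ≠ 0}).Infinite := by
      have h : ({t' : K | gx.eval t' ≠ 0}) = ((gx.roots.toFinset : Set K))ᶜ := by
        ext t'
        simp [Polynomial.mem_roots hgx]
      rw [h]
      exact gx.roots.toFinset.finite_toSet.infinite_compl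
    refine hinf (((hfinfib x).image (fun u => ev u t)).subset fun t' ht' => ?_)
    let z : Polynomial (MvPolynomial J K) →ₐ[K] K :=
      { (Polynomial.eval₂RingHom (MvPolynomial.eval x) t') with
        commutes' := fun c => by
          show Polynomial.eval₂ (MvPolynomial.eval x) t' (Polynomial.C (MvPolynomial.C c)) = c
          simp }
    obtain ⟨y, hy⟩ := hg z (by
      show Polynomial.eval₂ (MvPolynomial.eval x) t' g ≠ 0
      rw [Polynomial.eval₂_eq_eval_map]
      exact ht')
    refine ⟨ev.symm y, fun j => ?_, ?_⟩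
    · show ev (ev.symm y) (cd j.1) = x j
      rw [Equiv.apply_symm_apply]
      have h1 := AlgHom.congr_fun hy (Polynomial.C (MvPolynomial.X j))
      simpa [ψ, z, φ, RingHom.algebraMap_toAlgebra] using h1
    · show ev (ev.symm y) t = t'
      rw [Equiv.apply_symm_apply]
      have h1 := AlgHom.congr_fun hy Polynomial.X
      simpa [ψ, z] using h1
  rw [DimLib.ringKrullDim_eq_trdeg (k := K) (A := A)]
  have h0 : Algebra.trdeg (MvPolynomial J K) A = 0 := trdeg_eq_zero
  have h1 := lift_trdeg_add_eq K (MvPolynomial J K) A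
  simp [MvPolynomial.trdeg_of_isDomain, h0] at h1
  rw [← h1]
  simp

end Groth.Agent.UnipCount19
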