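import Groth.Agent.IsocLib.LangK
import Groth.Agent.HopfLib.Kolchin

/-! A rational flag for unipotent operators normalised by a semilinear map. -/

set_option autoImplicit false
set_option linter.style.haveILetI false
set_option linter.unusedSectionVars false

universe u v w

open Polynomial

namespace Groth.Agent.UnipCount19

variable {K : Type u} [Field K] [IsAlgClosed K] {p e : ℕ} [Fact p.Prime] [CharP K p]
  {U : Type v} [Group U] {θ : U →* U} {W : Type w} [AddCommGroup W] [Module K W] [FiniteDimensional K W]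

theorem exists_root (hq : 2 ≤ p ^ e) (c : K) : ∃ t : K, t ^ p ^ e - t = c := by
  obtain ⟨t, ht⟩ := IsAlgClosed.exists_root (X ^ (p ^ e) - X - C c : K[X]) (by
    rw [degree_sub_eq_left_of_degree_lt]
    · rw [degree_sub_eq_left_of_degree_lt] <;> rw [degree_X_pow]
      · exact_mod_cast (show p ^ e ≠ 0 by omega)
      · rw [degree_X]; exact_mod_cast (show 1 < p ^ e by omega)
    · rw [degree_sub_eq_left_of_degree_lt] <;> rw [degree_X_pow]
      · exact lt_of_le_of_lt degree_C_le (by exact_mod_cast (show 0 < p ^ e by omega))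
      · rw [degree_X]; exact_mod_cast (show 1 < p ^ e by omega))
  simp only [IsRoot.def, eval_sub, eval_pow, eval_X, eval_C, sub_eq_zero] at ht
  exact ⟨t, ht⟩

variable (hq : 2 ≤ p ^ e) (hθ : Function.Surjective θ) (T : U →* Module.End K W)
  (hT : ∀ u, IsNilpotent (T u - 1)) (φ : W →+ W) (hsmul : ∀ (c : K) x, φ (c • x) = c ^ p ^ e • φ x)
  (hinj : Function.Injective φ) (hφT : ∀ u x, φ (T u x) = T (θ u) (φ x))

include hq hθ hT hsmul hinj hφT

theorem exists_next {n : ℕ} (b : Fin n → W) (hb : ∀ i, φ (b i) = b i)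
    (hbT : ∀ u i, T u (b i) - b i ∈ Submodule.span K (Set.range b)) (hne : Submodule.span K (Set.range b) ≠ ⊤) :
    ∃ x, x ∉ Submodule.span K (Set.range b) ∧ φ x = x ∧ ∀ u, T u x - x ∈ Submodule.span K (Set.range b) := by
  classical
  set S := Submodule.span K (Set.range b)
  let θK : K →+* K := iterateFrobenius K p e
  have hθK : ∀ c, θK c = c ^ p ^ e := iterateFrobenius_def p e
  let fl : W →ₛₗ[θK] W := { φ with map_smul' := fun c y => by rw [hθK]; exact hsmul c y }
  have hbS : ∀ i, b i ∈ S := fun i => Submodule.subset_span ⟨i, rfl⟩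
  have hfl : S ≤ S.comap fl := by
    rw [Submodule.span_le]
    rintro _ ⟨i, rfl⟩
    show φ (b i) ∈ S
    rw [hb]
    exact hbS i
  have hback : ∀ y, φ y ∈ S → y ∈ S := fun y hy => by
    obtain ⟨c, hc⟩ := (Submodule.mem_span_range_iff_exists_fun K).1 hy
    choose c' hc' using fun i => IsAlgClosed.exists_pow_nat_eq (c i) (show 0 < p ^ e by omega)
    refine (Submodule.mem_span_range_iff_exists_fun K).2 ⟨c', hinj ?_⟩
    rw [map_sum, ← hc]
    simp [hsmul, hb, hc']
  have hTS : ∀ u, S ≤ S.comap (T u) := fun u => by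
    rw [Submodule.span_le]
    rintro _ ⟨i, rfl⟩
    show T u (b i) ∈ S
    rw [← sub_add_cancel (T u (b i)) (b i)]
    exact S.add_mem (hbT u i) (hbS i)
  let Tq : U →* Module.End K (W ⧸ S) :=
    { toFun := fun u => S.mapQ S (T u) (hTS u)
      map_one' := Submodule.linearMap_qext _ (LinearMap.ext fun x => by simp)
      map_mul' := fun u v => Submodule.linearMap_qext _ (LinearMap.ext fun x => by simp) }
  haveI : Nontrivial (W ⧸ S) := Submodule.Quotient.nontrivial_iff.2 hne
  have hTq : ∀ u, IsNilpotent (Tq u - 1) := fun u => by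
    obtain ⟨N, hN⟩ := hT u
    refine ⟨N, Submodule.linearMap_qext _ (LinearMap.ext fun x => ?_)⟩
    have key : ∀ (i : ℕ) (x : W), ((Tq u - 1) ^ i) (S.mkQ x) = S.mkQ (((T u - 1) ^ i) x) := by
      intro i
      induction i with
      | zero => intro x; rfl
      | succ i ih =>
        intro x
        rw [pow_succ, pow_succ, Module.End.mul_apply, Module.End.mul_apply, ← ih]
        congr 1
    show ((Tq u - 1) ^ N) (S.mkQ x) = 0
    rw [key, hN]
    simp
  obtain ⟨v, hv0, hv⟩ := HopfLib.exists_fixed_of_unipotent_algClosed Tq hTq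
  let Fx : Submodule K (W ⧸ S) := ⨅ u, LinearMap.ker (Tq u - 1)
  have hmem : ∀ y, y ∈ Fx ↔ ∀ u, Tq u y = y := fun y => by
    simp [Fx, Submodule.mem_iInf, sub_eq_zero]
  haveI : Nontrivial Fx := ⟨⟨⟨v, (hmem v).2 hv⟩, 0, fun h => hv0 (congrArg Subtype.val h)⟩⟩
  let flq := S.mapQ S fl hfl
  have hstab : ∀ y ∈ Fx, flq y ∈ Fx := fun y hy => by
    rw [hmem] at hy ⊢
    intro u
    obtain ⟨u', rfl⟩ := hθ u
    obtain ⟨x, rfl⟩ := S.mkQ_surjective y
    show S.mkQ (T (θ u') (φ x)) = S.mkQ (φ x)
    rw [← hφT]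
    exact congrArg flq (hy u')
  let f : Fx →+ Fx := AddMonoidHom.mk' (fun y => ⟨flq y.1, hstab _ y.2⟩)
    (fun y z => Subtype.ext (flq.map_add y.1 z.1))
  obtain ⟨y, hy0, hy⟩ := IsocLib.exists_fixed_ne_zero hq f
    (fun (c : K) (y : Fx) => Subtype.ext (by show flq (c • y.1) = c ^ p ^ e • flq y.1; rw [← hθK]; exact flq.map_smulₛₗ c y.1))
    (fun y z h => by
      apply Subtype.ext
      obtain ⟨a, ha⟩ := S.mkQ_surjective y.1
      obtain ⟨c, hc⟩ := S.mkQ_surjective z.1
      have h1 : flq y.1 = flq z.1 := congrArg Subtype.val h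
      rw [← ha, ← hc] at h1 ⊢
      have h2 : φ (a - c) ∈ S := by rw [map_sub]; exact (Submodule.Quotient.eq S).1 h1
      exact (Submodule.Quotient.eq S).2 (hback _ h2))
  obtain ⟨x, hx⟩ := S.mkQ_surjective y.1
  have hs : φ x - x ∈ S := by
    refine (Submodule.Quotient.eq S).1 ?_
    show flq (S.mkQ x) = S.mkQ x
    rw [hx]
    exact congrArg Subtype.val hy
  obtain ⟨c, hc⟩ := (Submodule.mem_span_range_iff_exists_fun K).1 hs
  choose t ht using fun i => exists_root (K := K) hq (-c i)
  let s := ∑ i, t i • b i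
  have hsS : s ∈ S := S.sum_mem fun i _ => S.smul_mem _ (hbS i)
  refine ⟨x + s, fun h => hy0 (Subtype.ext ?_), ?_, fun u => ?_⟩
  · have : x ∈ S := by simpa using S.sub_mem h hsS
    rw [← hx]
    exact (Submodule.Quotient.mk_eq_zero S).2 this
  · have h1 : φ s = ∑ i, t i ^ p ^ e • b i := by simp [s, hsmul, hb]
    have h2 : φ x = x + ∑ i, c i • b i := by rw [hc]; abel
    rw [map_add, h1, h2, add_assoc, ← Finset.sum_add_distrib]
    congr 1
    refine Finset.sum_congr rfl fun i _ => ?_
    rw [← add_smul]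
    congr 1
    linear_combination ht i
  · have h1 : T u x - x ∈ S := by
      refine (Submodule.Quotient.eq S).1 ?_
      show Tq u (S.mkQ x) = S.mkQ x
      rw [hx]
      exact (hmem _).1 y.2 u
    rw [map_add, add_sub_add_comm]
    exact S.add_mem h1 (S.sub_mem (hTS u hsS) hsS)

/-- A basis of fixed vectors in which all operators are upper unitriangular. -/
theorem exists_flag_basis :
    ∃ b : Module.Basis (Fin (Module.finrank K W)) K W, (∀ i, φ (b i) = b i) ∧
      ∀ u i l, i ≤ l → b.repr (T u (b i)) l = if l = i then 1 else 0 := by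
  classical
  have key : ∀ n, n ≤ Module.finrank K W → ∃ b : Fin n → W, LinearIndependent K b ∧ (∀ i, φ (b i) = b i) ∧
      ∀ u i, T u (b i) - b i ∈ Submodule.span K (b '' {l | l < i}) := by
    intro n
    induction n with
    | zero => intro _; exact ⟨Fin.elim0, linearIndependent_empty_type, fun i => i.elim0, fun _ i => i.elim0⟩
    | succ n ih =>
      intro hn
      obtain ⟨b, hli, hb, hbT⟩ := ih (by omega)
      have hne : Submodule.span K (Set.range b) ≠ ⊤ := fun h => by
        have := finrank_span_eq_card hli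
        rw [h, finrank_top] at this
        simp at this
        omega
      obtain ⟨x, hx, hxφ, hxT⟩ := exists_next hq hθ T hT φ hsmul hinj hφT b hb
        (fun u i => Submodule.span_mono (Set.image_subset_range _ _) (hbT u i)) hne
      refine ⟨Fin.snoc b x, linearIndependent_finSnoc.2 ⟨hli, hx⟩,
        fun i => Fin.lastCases (by simp [hxφ]) (fun j => by simp [hb]) i,
        fun u i => Fin.lastCases ?_ (fun j => ?_) i⟩
      · simp only [Fin.snoc_last]
        refine Submodule.span_mono ?_ (hxT u)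
        rintro _ ⟨j, rfl⟩
        exact ⟨j.castSucc, Fin.castSucc_lt_last j, by simp⟩
      · simp only [Fin.snoc_castSucc]
        refine Submodule.span_mono ?_ (hbT u j)
        rintro _ ⟨l, hl, rfl⟩
        exact ⟨l.castSucc, Fin.castSucc_lt_castSucc_iff.2 hl, by simp⟩
  obtain ⟨b, hli, hb, hbT⟩ := key _ le_rfl
  let B := Module.Basis.mk hli (Submodule.eq_top_of_finrank_eq (by rw [finrank_span_eq_card hli]; simp)).ge
  have hB : ∀ i, B i = b i := Module.Basis.mk_apply hli _
  refine ⟨B, fun i => by rw [hB, hb], fun u i l hil => ?_⟩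
  have h0 : ∀ z ∈ Submodule.span K (b '' {l' | l' < i}), B.repr z l = 0 := fun z hz => by
    induction hz using Submodule.span_induction with
    | mem z hz =>
      obtain ⟨j, hj, rfl⟩ := hz
      rw [← hB, B.repr_self, Finsupp.single_eq_of_ne]
      exact (lt_of_lt_of_le hj hil).ne'
    | zero => simp
    | add z z' _ _ hz hz' => simp [hz, hz']
    | smul c z _ hz => simp [hz]
  have h1 := h0 _ (hbT u i)
  rw [hB]
  rw [map_sub, Finsupp.sub_apply, sub_eq_zero] at h1
  rw [h1, ← hB, B.repr_self, Finsupp.single_apply]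
  simp [eq_comm]

end Groth.Agent.UnipCount19
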