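import Groth.Agent.Stk19b.Count.Orbits
import Mathlib.GroupTheory.GroupAction.SubMulAction
import Mathlib.Data.Finite.Prod
import Mathlib.Tactic.Group
import Mathlib.GroupTheory.QuotientGroup.Basic
import Mathlib.Tactic.Ring
import Mathlib.Tactic.LinearCombination
import Mathlib.Order.Interval.Finset.Nat
import Mathlib.Algebra.BigOperators.Intervals

/-! The mass of twisted conjugation on a group filtered by additive coordinates. -/

set_option autoImplicit false
set_option linter.style.haveILetI false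
set_option linter.unusedSectionVars false

namespace Groth.Agent.UnipCount19

open MulAction Stk19b.Count

section Index

variable {Γ P : Type*} [Group Γ] [MulAction Γ P] (K : Subgroup Γ) [Finite (Γ ⧸ K)]

/-- The mass for a subgroup of finite index. -/
theorem mass_subgroup [Finite (orbitRel.Quotient K P)] (hstab : ∀ p : P, Finite (stabilizer Γ p)) :
    mass K P = (Nat.card (Γ ⧸ K) : ℚ) * mass Γ P := by
  classical
  let Q := Γ ⧸ K
  let e₀ : Q := QuotientGroup.mk 1
  let σ : P → orbitRel.Quotient Γ (P × Q) := fun p => Quotient.mk _ (p, e₀)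
  haveI : Finite (orbitRel.Quotient Γ (P × Q)) := by
    refine Finite.of_surjective (fun x : orbitRel.Quotient K P => Quotient.liftOn x σ (by
      rintro p p' ⟨g, hg⟩
      exact Quotient.sound (show ∃ g : Γ, g • (p', e₀) = (p, e₀) from ⟨g.1, Prod.ext hg (by
        show g.1 • e₀ = e₀
        rw [← mem_stabilizer_iff, stabilizer_quotient]
        exact g.2)⟩))) ?_
    rintro ⟨p, ⟨g⟩⟩
    refine ⟨Quotient.mk _ (g⁻¹ • p), Quotient.sound (show ∃ h : Γ, h • (p, (QuotientGroup.mk g : Q)) = (g⁻¹ • p, e₀) from ⟨g⁻¹, Prod.ext rfl ?_⟩)⟩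
    show g⁻¹ • (QuotientGroup.mk g : Q) = e₀
    rw [Quotient.smul_mk, smul_eq_mul, inv_mul_cancel]
  haveI : Finite (orbitRel.Quotient Γ P) := by
    refine Finite.of_surjective (fun x : orbitRel.Quotient Γ (P × Q) =>
      Quotient.map Prod.fst (by rintro p p' ⟨g, hg⟩; exact ⟨g, congrArg Prod.fst hg⟩) x) ?_
    rintro ⟨p⟩
    exact ⟨Quotient.mk _ (p, e₀), rfl⟩
  haveI := Fintype.ofFinite (orbitRel.Quotient Γ P)
  let f₁ : (P × Q) →[Γ] Q := ⟨Prod.snd, fun _ _ => rfl⟩
  let f₂ : (P × Q) →[Γ] P := ⟨Prod.fst, fun _ _ => rfl⟩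
  have h₁ : mass Γ (P × Q) = mass K P := by
    rw [mass_eq_sum f₁ (fun _ : Unit => e₀) (fun x => ?_) (fun _ _ _ _ => rfl)]
    · rw [Fintype.sum_unique]
      have hK : stabilizer Γ e₀ = K := stabilizer_quotient K
      exact mass_congr (MulEquiv.subgroupCongr hK)
        { toFun := fun x => x.1.1
          invFun := fun p => ⟨(p, e₀), rfl⟩
          left_inv := fun x => Subtype.ext (Prod.ext rfl x.2.symm)
          right_inv := fun p => rfl } (fun g x => rfl)
    · obtain ⟨g, hg⟩ := QuotientGroup.mk_surjective x.2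
      exact ⟨(), g, by show g • e₀ = x.2; rw [← hg, Quotient.smul_mk, smul_eq_mul, mul_one]⟩
  have h₂ : mass Γ (P × Q) = (Nat.card Q : ℚ) * mass Γ P := by
    rw [mass_eq_sum f₂ (fun ω : orbitRel.Quotient Γ P => ω.out) (fun x => ?_) (fun c c' g h => ?_),
      mass, finsum_eq_sum_of_fintype, Finset.mul_sum]
    · refine Finset.sum_congr rfl fun ω _ => ?_
      haveI := hstab ω.out
      let e : Fibre f₂ ω.out ≃ Q :=
        { toFun := fun x => x.1.2
          invFun := fun y => ⟨(ω.out, y), rfl⟩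
          left_inv := fun x => Subtype.ext (Prod.ext x.2.symm rfl)
          right_inv := fun y => rfl }
      haveI := Finite.of_equiv _ e.symm
      rw [mass_eq_div, Nat.card_congr e, div_eq_mul_inv]
    · obtain ⟨g, hg⟩ := Quotient.mk_out (s := orbitRel Γ P) x.1
      refine ⟨Quotient.mk _ x.1, g⁻¹, ?_⟩
      rw [inv_smul_eq_iff]
      exact hg.symm
    · rw [← Quotient.out_eq c, ← Quotient.out_eq c']
      exact (Quotient.sound (show c'.out ∈ orbit Γ c.out from ⟨g, h⟩)).symm
  rw [← h₁, h₂]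

end Index

section Twisted

variable {U : Type*} [Group U] {θ : U →* U}

/-- A subgroup is invariant. -/
structure Inv (θ : U →* U) (V : Subgroup U) : Prop where
  conj : ∀ u v : U, v ∈ V → u * v * u⁻¹ ∈ V
  frob : ∀ v ∈ V, θ v ∈ V

/-- A coset. -/
def Cs (V : Subgroup U) (a : U) : Type _ := {x : U // a⁻¹ * x ∈ V}

/-- Twisted conjugation on a coset. -/
@[reducible] def csAction {V : Subgroup U} (hV : Inv θ V) (a : U) : MulAction V (Cs V a) where
  smul g x := ⟨θ g.1 * x.1 * g.1⁻¹, by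
    have h : a⁻¹ * (θ g.1 * x.1 * g.1⁻¹) = (a⁻¹ * θ g.1 * a⁻¹⁻¹) * (a⁻¹ * x.1) * g.1⁻¹ := by group
    rw [h]
    exact V.mul_mem (V.mul_mem (hV.conj _ _ (hV.frob _ g.2)) x.2) (V.inv_mem g.2)⟩
  one_smul x := Subtype.ext (by show θ (1 : U) * x.1 * (1 : U)⁻¹ = x.1; simp)
  mul_smul g h x := Subtype.ext (by
    show θ (g.1 * h.1) * x.1 * (g.1 * h.1)⁻¹ = θ g.1 * (θ h.1 * x.1 * h.1⁻¹) * g.1⁻¹
    rw [map_mul, mul_inv_rev]
    group)

/-- Every coset has finitely many classes and mass `m`. -/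
def HasMass {V : Subgroup U} (hV : Inv θ V) (m : ℚ) : Prop :=
  ∀ a : U, letI := csAction hV a
    Finite (orbitRel.Quotient V (Cs V a)) ∧ mass V (Cs V a) = m

theorem hasMass_bot (hV : Inv θ (⊥ : Subgroup U)) : HasMass hV 1 := fun a => by
  letI := csAction hV a
  have heq : ∀ x : Cs (⊥ : Subgroup U) a, x.1 = a := fun x =>
    (inv_mul_eq_one.1 (Subgroup.mem_bot.1 x.2)).symm
  haveI : Subsingleton (Cs (⊥ : Subgroup U) a) := ⟨fun x y => Subtype.ext ((heq x).trans (heq y).symm)⟩
  haveI : Nonempty (Cs (⊥ : Subgroup U) a) := ⟨⟨a, by simp⟩⟩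
  haveI : Finite (Cs (⊥ : Subgroup U) a) := inferInstance
  refine ⟨inferInstance, ?_⟩
  rw [mass_eq_div, Nat.card_of_subsingleton (Classical.arbitrary (Cs (⊥ : Subgroup U) a)),
    Nat.card_of_subsingleton (1 : (⊥ : Subgroup U))]
  norm_num

variable {F : Type*} [Field F]

open scoped Classical in
/-- One step: the kernel of an additive coordinate. -/
theorem hasMass_step (q : ℕ) (hfr : ∀ x y : F, (x + y) ^ q = x ^ q + y ^ q)
    (hfix : Nat.card {x : F // x ^ q = x} = q) (hq : q ≠ 0) (hroot : ∀ c : F, ∃ t : F, t ^ q - t = c)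
    (hfin : ∀ a : U, Finite {g : U // θ g * a * g⁻¹ = a})
    {V K : Subgroup U} (hV : Inv θ V) (hK : Inv θ K) (f : U → F)
    (hadd : ∀ v w, v ∈ V → w ∈ V → f (v * w) = f v + f w)
    (hθ : ∀ v ∈ V, f (θ v) = f v ^ q)
    (hconj : ∀ u v, v ∈ V → f (u * v * u⁻¹) = f v)
    (hker : ∀ v, v ∈ K ↔ v ∈ V ∧ f v = 0)
    (himg : (f '' V).Finite ∨ f '' V = Set.univ) (m : ℚ) (hm : HasMass hK m) :
    HasMass hV (if (f '' V).Finite then m else m / q) := by
  classical
  intro a
  letI := csAction hV a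
  let φ : V →* Multiplicative F :=
    MonoidHom.mk' (fun v => Multiplicative.ofAdd (f v.1)) (fun v w => congrArg Multiplicative.ofAdd (hadd _ _ v.2 w.2))
  have f1 : f 1 = 0 := by
    have h := hadd 1 1 V.one_mem V.one_mem
    rw [mul_one] at h
    exact left_eq_add.1 h
  have finv : ∀ v ∈ V, f v⁻¹ = - f v := fun v hv => by
    have h := hadd v v⁻¹ hv (V.inv_mem hv)
    rw [mul_inv_cancel, f1] at h
    exact (neg_eq_of_add_eq_zero_right h.symm).symm
  let I : AddSubgroup F :=
    { carrier := f '' V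
      add_mem' := by rintro _ _ ⟨v, hv, rfl⟩ ⟨w, hw, rfl⟩; exact ⟨v * w, V.mul_mem hv hw, hadd v w hv hw⟩
      zero_mem' := ⟨1, V.one_mem, f1⟩
      neg_mem' := by rintro _ ⟨v, hv, rfl⟩; exact ⟨v⁻¹, V.inv_mem hv, finv v hv⟩ }
  let P : I →+ I := AddMonoidHom.mk' (fun y => ⟨y.1 ^ q - y.1, by
      obtain ⟨v, hv, hvy⟩ := y.2
      refine I.sub_mem ⟨θ v, hV.frob v hv, ?_⟩ y.2
      rw [hθ v hv, hvy]⟩) (fun x y => Subtype.ext (by
      show (x.1 + y.1) ^ q - (x.1 + y.1) = (x.1 ^ q - x.1) + (y.1 ^ q - y.1)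
      rw [hfr]
      ring))
  -- the value of the coordinate on the coset
  let val : Cs V a → I := fun x => ⟨f (a⁻¹ * x.1), _, x.2, rfl⟩
  have hval : ∀ (g : V) (x : Cs V a), (val (g • x)).1 = (val x).1 + (f g.1 ^ q - f g.1) := fun g x => by
    show f (a⁻¹ * (θ g.1 * x.1 * g.1⁻¹)) = f (a⁻¹ * x.1) + (f g.1 ^ q - f g.1)
    have h : a⁻¹ * (θ g.1 * x.1 * g.1⁻¹) = (a⁻¹ * θ g.1 * a⁻¹⁻¹) * (a⁻¹ * x.1) * g.1⁻¹ := by group
    have hc := hV.conj a⁻¹ _ (hV.frob _ g.2)
    rw [h, hadd _ _ (V.mul_mem hc x.2) (V.inv_mem g.2), hadd _ _ hc x.2, hconj _ _ (hV.frob _ g.2),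
      hθ _ g.2, finv _ g.2]
    ring
  letI : MulAction V I :=
    { smul := fun g y => ⟨y.1 + (f g.1 ^ q - f g.1), I.add_mem y.2 (P ⟨f g.1, _, g.2, rfl⟩).2⟩
      one_smul := fun y => Subtype.ext (by show y.1 + (f 1 ^ q - f 1) = y.1; rw [f1, zero_pow hq]; ring)
      mul_smul := fun g h y => Subtype.ext (by
        show y.1 + (f (g.1 * h.1) ^ q - f (g.1 * h.1)) = y.1 + (f h.1 ^ q - f h.1) + (f g.1 ^ q - f g.1)
        rw [hadd _ _ g.2 h.2, hfr]
        ring) }
  let F₁ : Cs V a →[V] I := ⟨val, fun g x => Subtype.ext (hval g x)⟩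
  -- the stabiliser of every value
  let V' : Subgroup V :=
    { carrier := {g | f g.1 ^ q = f g.1}
      one_mem' := by show f 1 ^ q = f 1; rw [f1, zero_pow hq]
      mul_mem' := fun {g h} (hg : f g.1 ^ q = f g.1) (hh : f h.1 ^ q = f h.1) => by
        show f (g.1 * h.1) ^ q = f (g.1 * h.1)
        rw [hadd _ _ g.2 h.2, hfr, hg, hh]
      inv_mem' := fun {g} (hg : f g.1 ^ q = f g.1) => by
        show f g.1⁻¹ ^ q = f g.1⁻¹
        have h := hfr (f g.1) (f g.1⁻¹)
        rw [finv _ g.2, add_neg_cancel, zero_pow hq, hg] at h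
        rw [finv _ g.2]
        exact (neg_eq_of_add_eq_zero_right h.symm).symm }
  have hstab : ∀ c : I, stabilizer V c = V' := fun c => Subgroup.ext fun g => by
    rw [mem_stabilizer_iff]
    show _ ↔ f g.1 ^ q = f g.1
    constructor
    · intro h
      have := congrArg Subtype.val h
      exact sub_eq_zero.1 (add_eq_left.1 this)
    · intro h
      exact Subtype.ext (by show c.1 + (f g.1 ^ q - f g.1) = c.1; rw [h, sub_self, add_zero])
  -- the kernel inside the stabiliser
  let K' : Subgroup V' := Subgroup.comap ((Subgroup.subtype V).comp (Subgroup.subtype V')) K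
  let N := Nat.card P.ker
  have hVK : Finite (V' ⧸ K') ∧ Nat.card (V' ⧸ K') = N := by
    haveI : Finite {x : F // x ^ q = x} := Nat.finite_of_card_ne_zero (by rw [hfix]; exact hq)
    have hkerfin : Finite P.ker := Finite.of_injective
      (fun y : P.ker => (⟨y.1.1, sub_eq_zero.1 (congrArg Subtype.val y.2)⟩ : {x : F // x ^ q = x}))
      fun y y' h => Subtype.ext (Subtype.ext (congrArg Subtype.val h :))
    have key : ∀ g g' : V', (QuotientGroup.mk g : V' ⧸ K') = QuotientGroup.mk g' ↔ f g.1.1 = f g'.1.1 := fun g g' => by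
      rw [QuotientGroup.eq]
      show g.1.1⁻¹ * g'.1.1 ∈ K ↔ _
      rw [hker, hadd _ _ (V.inv_mem g.1.2) g'.1.2, finv _ g.1.2]
      constructor
      · rintro ⟨-, h⟩
        linear_combination -h
      · intro h
        exact ⟨V.mul_mem (V.inv_mem g.1.2) g'.1.2, by rw [h]; ring⟩
    let e : V' ⧸ K' → P.ker := fun x => Quotient.liftOn x
      (fun g => ⟨⟨f g.1.1, _, g.1.2, rfl⟩, Subtype.ext (sub_eq_zero.2 g.2)⟩)
      (fun g g' h => Subtype.ext (Subtype.ext ((key g g').1 (Quotient.sound h))))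
    have he : Function.Bijective e := by
      refine ⟨?_, ?_⟩
      · rintro ⟨g⟩ ⟨g'⟩ h
        exact (key g g').2 (congrArg (fun y : P.ker => y.1.1) h)
      · rintro ⟨⟨y, v, hv, rfl⟩, hy⟩
        exact ⟨QuotientGroup.mk ⟨⟨v, hv⟩, sub_eq_zero.1 (congrArg Subtype.val hy)⟩, rfl⟩
    exact ⟨Finite.of_injective e he.1, Nat.card_congr (Equiv.ofBijective e he)⟩
  haveI := hVK.1
  have hN : (N : ℚ) ≠ 0 := by
    rw [← hVK.2]
    exact_mod_cast Nat.card_pos.ne'
  have hfibre : ∀ c : I, Finite (orbitRel.Quotient (stabilizer V c) (Fibre F₁ c)) ∧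
      mass (stabilizer V c) (Fibre F₁ c) = m / N := by
    intro c
    obtain ⟨v, hv, hvc⟩ := c.2
    obtain ⟨hfinK, hmassK⟩ := hm (a * v)
    letI := csAction hK (a * v)
    let e : Fibre F₁ c ≃ Cs K (a * v) :=
      { toFun := fun x => ⟨x.1.1, by
          rw [hker, _root_.mul_inv_rev, mul_assoc]
          refine ⟨V.mul_mem (V.inv_mem hv) x.1.2, ?_⟩
          have hx : f (a⁻¹ * x.1.1) = c.1 := congrArg Subtype.val x.2
          rw [hadd _ _ (V.inv_mem hv) x.1.2, finv v hv, hx, hvc, neg_add_cancel]⟩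
        invFun := fun x => ⟨⟨x.1, by
          have h := (hker _).1 x.2
          simp only [_root_.mul_inv_rev, mul_assoc] at h
          have := V.mul_mem hv h.1
          rwa [mul_inv_cancel_left] at this⟩, by
          have h := (hker _).1 x.2
          simp only [_root_.mul_inv_rev, mul_assoc] at h
          refine Subtype.ext ?_
          show f (a⁻¹ * x.1) = c.1
          have h2 := hadd v (v⁻¹ * (a⁻¹ * x.1)) hv h.1
          rw [mul_inv_cancel_left, h.2, add_zero, hvc] at h2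
          exact h2⟩
        left_inv := fun x => rfl
        right_inv := fun x => rfl }
    have hmemK : ∀ g : K, g.1 ∈ V := fun g => ((hker _).1 g.2).1
    let K'' : Subgroup (stabilizer V c) := Subgroup.comap ((Subgroup.subtype V).comp (Subgroup.subtype (stabilizer V c))) K
    let eK : K'' ≃* K :=
      { toFun := fun g => ⟨g.1.1.1, g.2⟩
        invFun := fun g => ⟨⟨⟨g.1, hmemK g⟩, by
          rw [hstab]; show f g.1 ^ q = f g.1; rw [((hker _).1 g.2).2, zero_pow hq]⟩, g.2⟩
        left_inv := fun g => rfl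
        right_inv := fun g => rfl
        map_mul' := fun g g' => rfl }
    have hcongr : mass K'' (Fibre F₁ c) = m := (mass_congr eK e fun g x => rfl).trans hmassK
    haveI : Finite (orbitRel.Quotient K'' (Fibre F₁ c)) := by
      haveI := hfinK
      refine Finite.of_injective (Quotient.map (sa := orbitRel K'' _) (sb := orbitRel K _) e (fun x y => ?_)) ?_
      · rintro ⟨g, hg⟩
        exact ⟨eK g, congrArg e hg⟩
      · rintro ⟨x⟩ ⟨y⟩ h
        obtain ⟨g, hg⟩ := Quotient.exact h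
        exact Quotient.sound ⟨eK.symm g, e.injective hg⟩
    have hidx : Finite (stabilizer V c ⧸ K'') ∧ Nat.card (stabilizer V c ⧸ K'') = N := by
      have : ∀ (W : Subgroup V), W = V' →
          Finite (W ⧸ Subgroup.comap ((Subgroup.subtype V).comp (Subgroup.subtype W)) K) ∧
            Nat.card (W ⧸ Subgroup.comap ((Subgroup.subtype V).comp (Subgroup.subtype W)) K) = N := by
        rintro _ rfl
        exact hVK
      exact this _ (hstab c)
    haveI := hidx.1
    have hst : ∀ x : Fibre F₁ c, Finite (stabilizer (stabilizer V c) x) := fun x => by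
      haveI := hfin x.1.1
      exact Finite.of_injective
        (fun g : stabilizer (stabilizer V c) x =>
          (⟨g.1.1.1, congrArg (fun y : Fibre F₁ c => y.1.1) g.2⟩ : {g : U // θ g * x.1.1 * g⁻¹ = x.1.1}))
        fun g g' h => Subtype.ext (Subtype.ext (Subtype.ext (congrArg Subtype.val h :)))
    refine ⟨Finite.of_surjective (Quotient.map (sa := orbitRel K'' (Fibre F₁ c)) (sb := orbitRel (stabilizer V c) (Fibre F₁ c)) id
      (by rintro x y ⟨g, hg⟩; exact ⟨g.1, hg⟩)) ?_, ?_⟩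
    · rintro ⟨x⟩
      exact ⟨Quotient.mk _ x, rfl⟩
    · have h := mass_subgroup K'' hst
      rw [hcongr, hidx.2] at h
      rw [h, mul_div_cancel_left₀ _ hN]
  -- classes of values
  have hclass : Finite (orbitRel.Quotient V I) ∧ (Nat.card (orbitRel.Quotient V I) : ℚ) / N =
      (if (f '' V).Finite then 1 else 1 / (q : ℚ)) := by
    split_ifs with hI
    · haveI : Finite I := hI.to_subtype
      let e : orbitRel.Quotient V I → I ⧸ P.range := fun x => Quotient.liftOn x QuotientAddGroup.mk (by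
        rintro y y' ⟨g, hg⟩
        refine ((QuotientAddGroup.eq (s := P.range)).2 ⟨⟨f g.1, _, g.2, rfl⟩, Subtype.ext ?_⟩).symm
        have h := congrArg Subtype.val hg
        show f g.1 ^ q - f g.1 = -y'.1 + y.1
        rw [← h]
        show _ = -y'.1 + (y'.1 + _)
        ring)
      have he : Function.Bijective e := by
        refine ⟨?_, ?_⟩
        · rintro ⟨y⟩ ⟨y'⟩ h
          obtain ⟨⟨_, v, hv, rfl⟩, hP⟩ := (QuotientAddGroup.eq (s := P.range)).1 (h : (y : I ⧸ P.range) = y').symm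
          refine Quotient.sound ⟨⟨v, hv⟩, Subtype.ext ?_⟩
          show y'.1 + (f v ^ q - f v) = y.1
          have h2 : f v ^ q - f v = -y'.1 + y.1 := congrArg Subtype.val hP
          rw [h2]
          ring
        · rintro ⟨y⟩
          exact ⟨Quotient.mk _ y, rfl⟩
      refine ⟨inferInstance, ?_⟩
      have h1 := P.range.card_eq_card_quotient_mul_card_addSubgroup
      have h2 := P.ker.card_eq_card_quotient_mul_card_addSubgroup
      have h3 : Nat.card (I ⧸ P.ker) = Nat.card P.range :=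
        Nat.card_congr (QuotientAddGroup.quotientKerEquivRange P).toEquiv
      rw [h3] at h2
      have h4 : Nat.card (I ⧸ P.range) = N := by
        have hpos : 0 < Nat.card P.range := Nat.card_pos
        refine Nat.eq_of_mul_eq_mul_right hpos ?_
        rw [← h1, h2]
        exact Nat.mul_comm _ _
      rw [Nat.card_congr (Equiv.ofBijective e he), h4, div_self hN]
    · have huniv : f '' V = Set.univ := himg.resolve_left hI
      have hmem : ∀ x : F, x ∈ I := fun x => (huniv.ge (Set.mem_univ x) : x ∈ f '' V)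
      haveI : Subsingleton (orbitRel.Quotient V I) := ⟨by
        rintro ⟨y⟩ ⟨y'⟩
        obtain ⟨t, ht⟩ := hroot (y.1 - y'.1)
        obtain ⟨v, hv, rfl⟩ := (hmem t : t ∈ f '' V)
        refine Quotient.sound ⟨⟨v, hv⟩, Subtype.ext ?_⟩
        show y'.1 + (f v ^ q - f v) = y.1
        rw [ht]
        ring⟩
      refine ⟨inferInstance, ?_⟩
      rw [Nat.card_of_subsingleton (Quotient.mk _ (0 : I) : orbitRel.Quotient V I)]
      have : N = q := by
        rw [← hfix]
        exact Nat.card_congr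
          { toFun := fun y => ⟨y.1.1, sub_eq_zero.1 (congrArg Subtype.val y.2)⟩
            invFun := fun x => ⟨⟨x.1, hmem _⟩, Subtype.ext (sub_eq_zero.2 x.2)⟩
            left_inv := fun y => rfl
            right_inv := fun x => rfl }
      rw [this, Nat.cast_one]
  haveI := hclass.1
  haveI := Fintype.ofFinite (orbitRel.Quotient V I)
  haveI : ∀ c : orbitRel.Quotient V I, Finite (orbitRel.Quotient (stabilizer V c.out) (Fibre F₁ c.out)) :=
    fun c => (hfibre _).1
  haveI hfinV : Finite (orbitRel.Quotient V (Cs V a)) := by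
    refine Finite.of_surjective
      (fun x : Σ c : orbitRel.Quotient V I, orbitRel.Quotient (stabilizer V c.out) (Fibre F₁ c.out) =>
        Quotient.map Subtype.val (by rintro p p' ⟨g, hg⟩; exact ⟨g.1, congrArg Subtype.val hg⟩) x.2) ?_
    rintro ⟨x⟩
    obtain ⟨g, hg⟩ := Quotient.mk_out (s := orbitRel V I) (F₁ x)
    exact ⟨⟨_, Quotient.mk _ ⟨g • x, by rw [map_smul]; exact hg⟩⟩, Quotient.sound (show ∃ h : V, h • x = g • x from ⟨g, rfl⟩)⟩
  refine ⟨hfinV, ?_⟩
  rw [mass_eq_sum F₁ (fun c : orbitRel.Quotient V I => c.out) (fun x => ?_) (fun c c' g h => ?_),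
    Finset.sum_congr rfl (fun c _ => (hfibre c.out).2), Finset.sum_const, Finset.card_univ,
    ← Nat.card_eq_fintype_card, nsmul_eq_mul, ← mul_div_assoc, mul_comm, mul_div_assoc, hclass.2]
  · split_ifs
    · rw [mul_one]
    · rw [mul_one_div]
  · obtain ⟨g, hg⟩ := Quotient.mk_out (s := orbitRel V I) (F₁ x)
    exact ⟨Quotient.mk _ (F₁ x), g⁻¹, inv_smul_eq_iff.2 hg.symm⟩
  · rw [← Quotient.out_eq c, ← Quotient.out_eq c']
    exact (Quotient.sound (show c'.out ∈ orbit V c.out from ⟨g, h⟩)).symm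

open scoped Classical in
/-- The product formula along a filtration by coordinates. -/
theorem card_fixed (q : ℕ) (hfr : ∀ x y : F, (x + y) ^ q = x ^ q + y ^ q)
    (hfix : Nat.card {x : F // x ^ q = x} = q) (hq : q ≠ 0) (hroot : ∀ c : F, ∃ t : F, t ^ q - t = c)
    (hfin : ∀ a : U, Finite {g : U // θ g * a * g⁻¹ = a})
    (N : ℕ) (V : ℕ → Subgroup U) (f : ℕ → U → F) (h0 : V 0 = ⊤) (hN : V N = ⊥)
    (hker : ∀ j, j < N → ∀ v, v ∈ V (j + 1) ↔ v ∈ V j ∧ f j v = 0)
    (hadd : ∀ j, j < N → ∀ v w, v ∈ V j → w ∈ V j → f j (v * w) = f j v + f j w)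
    (hθ : ∀ j, j < N → ∀ v ∈ V j, f j (θ v) = f j v ^ q)
    (hconj : ∀ j, j < N → ∀ u v, v ∈ V j → f j (u * v * u⁻¹) = f j v)
    (himg : ∀ j, j < N → (f j '' V j).Finite ∨ f j '' V j = Set.univ) :
    (∀ hT : Inv θ (⊤ : Subgroup U),
      HasMass hT (((q : ℚ) ^ ((Finset.range N).filter fun j => ¬ (f j '' V j).Finite).card)⁻¹)) ∧
    ((∀ a : U, ∃ g : U, θ g * g⁻¹ = a) →
      Nat.card {g : U // θ g = g} = q ^ ((Finset.range N).filter fun j => ¬ (f j '' V j).Finite).card) := by
  classical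
  have hinv : ∀ j, j ≤ N → Inv θ (V j) := by
    intro j hj
    induction j with
    | zero => exact ⟨fun _ _ _ => by rw [h0]; trivial, fun _ _ => by rw [h0]; trivial⟩
    | succ j ih =>
      have hj' : j < N := hj
      refine ⟨fun u v hv => ?_, fun v hv => ?_⟩
      · obtain ⟨h1, h2⟩ := (hker j hj' v).1 hv
        exact (hker j hj' _).2 ⟨(ih hj'.le).conj u v h1, by rw [hconj j hj' u v h1, h2]⟩
      · obtain ⟨h1, h2⟩ := (hker j hj' v).1 hv
        exact (hker j hj' _).2 ⟨(ih hj'.le).frob v h1, by rw [hθ j hj' v h1, h2, zero_pow hq]⟩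
  have hqQ : (q : ℚ) ≠ 0 := Nat.cast_ne_zero.2 hq
  have key : ∀ i j, (hj : j ≤ N) → i + j = N → HasMass (hinv j hj)
      (((q : ℚ) ^ ((Finset.Ico j N).filter fun j => ¬ (f j '' V j).Finite).card)⁻¹) := by
    intro i
    induction i with
    | zero =>
      intro j hj e
      obtain rfl : j = N := by omega
      simp only [Finset.Ico_self, Finset.filter_empty, Finset.card_empty, pow_zero, inv_one]
      have : ∀ (W : Subgroup U) (hW : Inv θ W), W = ⊥ → HasMass hW 1 := by
        rintro W hW rfl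
        exact hasMass_bot hW
      exact this _ _ hN
    | succ i ih =>
      intro j hj e
      have hjN : j < N := by omega
      have h := ih (j + 1) hjN (by omega)
      convert hasMass_step q hfr hfix hq hroot hfin (hinv j hjN.le) (hinv (j + 1) hjN) (f j) (hadd j hjN)
        (hθ j hjN) (hconj j hjN) (hker j hjN) (himg j hjN) _ h using 1
      rw [← Finset.insert_Ico_add_one_left_eq_Ico hjN, Finset.filter_insert]
      by_cases hI : (f j '' V j).Finite
      · rw [if_pos hI, if_neg (not_not.2 hI)]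
      · rw [if_neg hI, if_pos hI, Finset.card_insert_of_notMem (by simp), pow_succ, _root_.mul_inv_rev,
          div_eq_mul_inv, mul_comm]
  refine ⟨?_, fun hlang => ?_⟩
  · have hk := key N 0 (Nat.zero_le N) rfl
    rw [← Finset.range_eq_Ico] at hk
    revert hk
    generalize (((q : ℚ) ^ ((Finset.range N).filter fun j => ¬ (f j '' V j).Finite).card)⁻¹) = m
    generalize hinv 0 (Nat.zero_le N) = hV0
    revert hV0
    rw [h0]
    exact fun _ hk _ => hk
  obtain ⟨hfinq, hmass⟩ := key N 0 (Nat.zero_le N) rfl 1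
  rw [Finset.range_eq_Ico]
  letI := csAction (hinv 0 (Nat.zero_le N)) (1 : U)
  have hmem : ∀ x : U, x ∈ V 0 := fun x => by rw [h0]; trivial
  let p₀ : Cs (V 0) (1 : U) := ⟨1, hmem _⟩
  have htrans : ∀ x : Cs (V 0) (1 : U), ∃ g : V 0, g • p₀ = x := fun x => by
    obtain ⟨g, hg⟩ := hlang x.1
    exact ⟨⟨g, hmem g⟩, Subtype.ext (by show θ g * 1 * g⁻¹ = x.1; rw [mul_one, hg])⟩
  haveI : Subsingleton (orbitRel.Quotient (V 0) (Cs (V 0) (1 : U))) := ⟨by
    rintro ⟨x⟩ ⟨y⟩
    obtain ⟨g, rfl⟩ := htrans x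
    obtain ⟨g', rfl⟩ := htrans y
    exact Quotient.sound ⟨g * g'⁻¹, by show (g * g'⁻¹) • (g' • p₀) = g • p₀; rw [smul_smul, inv_mul_cancel_right]⟩⟩
  have hcard : mass (V 0) (Cs (V 0) (1 : U)) = ((Nat.card {g : U // θ g = g} : ℕ) : ℚ)⁻¹ := by
    rw [mass, finsum_eq_single _ (Quotient.mk _ p₀) (fun x hx => absurd (Subsingleton.elim x _) hx), card_stabilizer_out]
    congr 2
    refine Nat.card_congr
      { toFun := fun g => ⟨g.1.1, ?_⟩
        invFun := fun g => ⟨⟨g.1, hmem _⟩, Subtype.ext ?_⟩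
        left_inv := fun g => rfl
        right_inv := fun g => rfl }
    · have h := congrArg Subtype.val g.2
      change θ g.1.1 * 1 * g.1.1⁻¹ = 1 at h
      rwa [mul_one, mul_inv_eq_one] at h
    · show θ g.1 * 1 * g.1⁻¹ = 1
      rw [mul_one, g.2, mul_inv_cancel]
  rw [hcard, inv_inj] at hmass
  exact_mod_cast hmass

end Twisted

end Groth.Agent.UnipCount19
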