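import Groth.Agent.UnipCount19.Count
import Groth.Agent.UnipCount19.Flag
import Groth.Agent.HopfLib.ComodFlag
import Groth.Agent.HopfLib.UnipotentPow
import Groth.Agent.HopfQuot.Basic
import Groth.Prelude.Def_GLin2
import Mathlib.RingTheory.Flat.Basic
import Mathlib.RingTheory.Flat.FaithfullyFlat.Basic
import Mathlib.FieldTheory.Finite.GaloisField

/-! The representation by translations, and twisted fixed points of unipotent subgroups. -/

set_option autoImplicit false
set_option linter.style.haveILetI false
set_option linter.unusedSectionVars false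
set_option maxHeartbeats 1000000

universe u

open TensorProduct WithConv HopfRep Groth.Agent.HopfLib Groth.Agent.HopfQuot

noncomputable section

namespace Groth.Agent.UnipCount19

variable {k : Type u} [Field k] {A : Type u} [CommRing A] [HopfAlgebra k A] {K : Type u} [Field K] [Algebra k K]

/-- `x ⊗ b ↦ g(b) ⊗ x`. -/
def swapEval {V : Type u} [AddCommGroup V] [Module k V] {B : Type u} [CommRing B] [Algebra k B] (g : B →ₐ[k] K) :
    V ⊗[k] B →ₗ[k] K ⊗[k] V :=
  (TensorProduct.comm k V K).toLinearMap ∘ₗ g.toLinearMap.lTensor V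

@[simp] theorem swapEval_tmul {V : Type u} [AddCommGroup V] [Module k V] {B : Type u} [CommRing B] [Algebra k B]
    (g : B →ₐ[k] K) (x : V) (b : B) : swapEval g (x ⊗ₜ[k] b) = g b ⊗ₜ[k] x := rfl

/-- Right translation by a point. -/
def trans (g : Pt k A K) : K ⊗[k] A →ₗ[K] K ⊗[k] A :=
  (swapEval g.ofConv ∘ₗ CoalgebraStruct.comul (R := k) (A := A)).liftBaseChange K

theorem trans_tmul (g : Pt k A K) (c : K) (a : A) :
    trans g (c ⊗ₜ[k] a) = c • swapEval g.ofConv (CoalgebraStruct.comul (R := k) a) :=
  LinearMap.liftBaseChange_tmul _ _ _ _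

theorem trans_one_tmul (g : Pt k A K) (a : A) :
    trans g ((1 : K) ⊗ₜ[k] a) = swapEval g.ofConv (CoalgebraStruct.comul (R := k) a) := by
  rw [trans_tmul, one_smul]

theorem trans_one : trans (1 : Pt k A K) = LinearMap.id := by
  refine LinearMap.ext fun z => ?_
  induction z using TensorProduct.induction_on with
  | zero => simp
  | add x y hx hy => simp only [map_add, hx, hy]
  | tmul c a =>
    have h1 : ∀ t : A ⊗[k] A, swapEval (1 : Pt k A K).ofConv t =
        (1 : K) ⊗ₜ[k] (TensorProduct.rid k A (LinearMap.lTensor A (CoalgebraStruct.counit (R := k) (A := A)) t)) := by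
      intro t
      induction t using TensorProduct.induction_on with
      | zero => simp
      | add x y hx hy => simp only [map_add, hx, hy, TensorProduct.tmul_add]
      | tmul x b =>
        rw [swapEval_tmul, HopfQuot.one_apply, LinearMap.lTensor_tmul, TensorProduct.rid_tmul,
          Algebra.algebraMap_eq_smul_one, TensorProduct.smul_tmul]
    rw [trans_tmul, h1, Coalgebra.lTensor_counit_comul, TensorProduct.rid_tmul, one_smul, TensorProduct.smul_tmul',
      smul_eq_mul, _root_.mul_one]
    rfl

theorem trans_mul (g h : Pt k A K) : trans (g * h) = trans g ∘ₗ trans h := by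
  refine LinearMap.ext fun z => ?_
  induction z using TensorProduct.induction_on with
  | zero => simp
  | add x y hx hy => simp only [map_add, hx, hy]
  | tmul c a =>
    rw [LinearMap.comp_apply, trans_tmul, trans_tmul, map_smul]
    congr 1
    let Ψ : A ⊗[k] (A ⊗[k] A) →ₗ[k] K ⊗[k] A :=
      (TensorProduct.comm k A K).toLinearMap ∘ₗ
        (Algebra.TensorProduct.lift g.ofConv h.ofConv (fun _ _ => .all ..)).toLinearMap.lTensor A
    have hR : ∀ t : A ⊗[k] A, swapEval (g * h).ofConv t =
        Ψ ((CoalgebraStruct.comul (R := k) (A := A)).lTensor A t) := by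
      intro t
      induction t using TensorProduct.induction_on with
      | zero => simp
      | add x y hx hy => simp only [map_add, hx, hy]
      | tmul x b =>
        rw [swapEval_tmul, HopfQuot.mul_apply]
        rfl
    have hL : ∀ t : A ⊗[k] A, trans g (swapEval h.ofConv t) =
        Ψ (TensorProduct.assoc k A A A ((CoalgebraStruct.comul (R := k) (A := A)).rTensor A t)) := by
      intro t
      induction t using TensorProduct.induction_on with
      | zero => simp
      | add x y hx hy => simp only [map_add, hx, hy]
      | tmul x b =>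
        rw [swapEval_tmul, trans_tmul, LinearMap.rTensor_tmul]
        generalize CoalgebraStruct.comul (R := k) x = s
        induction s using TensorProduct.induction_on with
        | zero => simp
        | add p q hp hq => simp only [map_add, smul_add, TensorProduct.add_tmul, hp, hq]
        | tmul p q =>
          rw [swapEval_tmul, TensorProduct.smul_tmul', smul_eq_mul, TensorProduct.assoc_tmul]
          show (h.ofConv b * g.ofConv q) ⊗ₜ[k] p = (g.ofConv q * h.ofConv b) ⊗ₜ[k] p
          rw [_root_.mul_comm]
    rw [hR, hL, Coalgebra.coassoc_apply]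

/-- Translations as operators. -/
def transHom : Pt k A K →* Module.End K (K ⊗[k] A) where
  toFun := trans
  map_one' := trans_one
  map_mul' := trans_mul

/-- A `k`-endomorphism of `K` acting on coefficients. -/
def coeffMap (V : Type u) [AddCommGroup V] [Module k V] (F : K →ₐ[k] K) : K ⊗[k] V →+ K ⊗[k] V :=
  (F.toLinearMap.rTensor V).toAddMonoidHom

theorem coeffMap_smul (V : Type u) [AddCommGroup V] [Module k V] (F : K →ₐ[k] K) (c : K) (z : K ⊗[k] V) :
    coeffMap V F (c • z) = F c • coeffMap V F z := by
  induction z using TensorProduct.induction_on with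
  | zero => simp
  | add x y hx hy => simp only [smul_add, map_add, hx, hy]
  | tmul d a =>
    show F (c * d) ⊗ₜ[k] a = F c • (F d ⊗ₜ[k] a)
    rw [map_mul, TensorProduct.smul_tmul', smul_eq_mul]

theorem coeffMap_trans (F : K →ₐ[k] K) (g : Pt k A K) (z : K ⊗[k] A) :
    coeffMap A F (trans g z) = trans (toConv (F.comp g.ofConv)) (coeffMap A F z) := by
  induction z using TensorProduct.induction_on with
  | zero => simp
  | add x y hx hy => simp only [map_add, hx, hy]
  | tmul c a =>
    rw [trans_tmul, coeffMap_smul]
    show _ = trans _ (F c ⊗ₜ[k] a)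
    rw [trans_tmul]
    congr 1
    generalize CoalgebraStruct.comul (R := k) a = t
    induction t using TensorProduct.induction_on with
    | zero => simp
    | add x y hx hy => simp only [map_add, hx, hy]
    | tmul x b => rfl

variable [IsAlgClosed K] {B : Type u} [CommRing B] [HopfAlgebra k B]

/-- Twisted fixed points of a connected unipotent subgroup. -/
theorem card_twisted_unipotent {p e : ℕ} [Fact p.Prime] [CharP K p] (hq : 2 ≤ p ^ e)
    (F : K →ₐ[k] K) (hF : ∀ x, F x = x ^ p ^ e)
    [Algebra.FiniteType k A] [Algebra.FiniteType k B] (π : A →ₐc[k] B) (hπ : Function.Surjective π)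
    (hB : HopfRep.IsUnipotent k B) [IsDomain (K ⊗[k] B)] (d : ℕ) (hd : ringKrullDim (K ⊗[k] B) = (d : WithBot ℕ∞))
    {U : Type u} [Group U] (evU : U ≃ Pt k B K) (j : U →* Pt k A K)
    (hj : ∀ u a, (j u).ofConv a = (evU u).ofConv (π a))
    (θ : U →* U) (hθs : Function.Surjective θ) (c : Pt k A K) (c' : Pt k A K) (hc : c * c' = 1)
    (hθ : ∀ u, j (θ u) = c' * toConv (F.comp (j u).ofConv) * c)
    (hfin : ∀ a : U, Finite {g : U // θ g * a * g⁻¹ = a}) (hlang : ∀ a : U, ∃ g : U, θ g * g⁻¹ = a) :
    Nat.card {g : U // θ g = g} = (p ^ e) ^ d := by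
  classical
  obtain ⟨s, hs⟩ := (Algebra.FiniteType.out : (⊤ : Subalgebra k A).FG)
  obtain ⟨S, hSfin, hsS, hS⟩ := exists_finite_subcomod (k := k) (A := A) (V := A) (s : Set A) s.finite_toSet
  haveI := hSfin
  let W : Submodule K (K ⊗[k] A) := LinearMap.range (S.subtype.baseChange K)
  have hWmem : ∀ v ∈ S, (1 : K) ⊗ₜ[k] v ∈ W := fun v hv => ⟨(1 : K) ⊗ₜ[k] ⟨v, hv⟩, rfl⟩
  have htrS : ∀ (g : Pt k A K), ∀ v ∈ S, trans g ((1 : K) ⊗ₜ[k] v) ∈ W := fun g v hv => by
    obtain ⟨t, ht⟩ := hS v hv
    rw [trans_one_tmul, show CoalgebraStruct.comul (R := k) v = Comod.coact (k := k) (A := A) v from rfl, ← ht]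
    clear ht
    induction t using TensorProduct.induction_on with
    | zero => simp
    | add x y hx hy => simp only [map_add]; exact W.add_mem hx hy
    | tmul x b =>
      rw [LinearMap.rTensor_tmul, swapEval_tmul]
      exact ⟨g.ofConv b ⊗ₜ[k] x, rfl⟩
  have hWT : ∀ (g : Pt k A K), ∀ z ∈ W, trans g z ∈ W := by
    rintro g _ ⟨y, rfl⟩
    induction y using TensorProduct.induction_on with
    | zero => simp
    | add x y hx hy => simp only [map_add]; exact W.add_mem hx hy
    | tmul r v =>
      rw [LinearMap.baseChange_tmul, show r ⊗ₜ[k] S.subtype v = r • ((1 : K) ⊗ₜ[k] (v : A)) by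
        rw [TensorProduct.smul_tmul', smul_eq_mul, _root_.mul_one]; rfl, map_smul]
      exact W.smul_mem _ (htrS g v v.2)
  have hWφ : ∀ z ∈ W, coeffMap A F z ∈ W := by
    rintro _ ⟨y, rfl⟩
    induction y using TensorProduct.induction_on with
    | zero => simp
    | add x y hx hy => simp only [map_add]; exact W.add_mem hx hy
    | tmul r v => exact ⟨F r ⊗ₜ[k] v, rfl⟩
  let T : U →* Module.End K W :=
    { toFun := fun u => (trans (j u)).restrict (hWT _)
      map_one' := LinearMap.ext fun z => Subtype.ext (by
        show trans (j 1) z.1 = z.1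
        rw [map_one, trans_one]; rfl)
      map_mul' := fun u v => LinearMap.ext fun z => Subtype.ext (by
        show trans (j (u * v)) z.1 = trans (j u) (trans (j v) z.1)
        rw [map_mul, trans_mul]; rfl) }
  let φ : W →+ W := AddMonoidHom.mk' (fun z => ⟨trans c' (coeffMap A F z.1), hWT _ _ (hWφ _ z.2)⟩)
    (fun x y => Subtype.ext (by
      show trans c' (coeffMap A F (x.1 + y.1)) = trans c' (coeffMap A F x.1) + trans c' (coeffMap A F y.1)
      rw [map_add, map_add]))
  have hFinj : Function.Injective (coeffMap A F) :=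
    Module.Flat.rTensor_preserves_injective_linearMap F.toLinearMap F.toRingHom.injective
  have hc'inj : Function.Injective (trans c') := fun x y h => by
    have h2 := congrArg (trans c) h
    rwa [← LinearMap.comp_apply, ← LinearMap.comp_apply, ← trans_mul, hc, trans_one] at h2
  have hφT : ∀ u z, φ (T u z) = T (θ u) (φ z) := fun u z => Subtype.ext (by
    show trans c' (coeffMap A F (trans (j u) z.1)) = trans (j (θ u)) (trans c' (coeffMap A F z.1))
    rw [coeffMap_trans, ← LinearMap.comp_apply (trans c'), ← LinearMap.comp_apply (trans (j (θ u))),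
      ← trans_mul, ← trans_mul, hθ]
    congr 2
    rw [_root_.mul_assoc _ c c', hc, _root_.mul_one])
  -- unipotence
  let cS : HopfRep.Comod k A S := ComodSub.Comod.restr (Comod.regular k A) S hS
  let cB : HopfRep.Comod k B S := GLin.comodAlong π cS
  obtain ⟨Fl, hFlmono, hFl0, hFltop, -, hFl⟩ :=
    @exists_flag_unipotent k _ B _ _ hB S _ _ cB _
  have hstep : ∀ (u : U) (i : ℕ) (v : S), v ∈ Fl (i + 1) →
      trans (j u) ((1 : K) ⊗ₜ[k] (v : A)) - (1 : K) ⊗ₜ[k] (v : A) ∈
        LinearMap.range ((S.subtype ∘ₗ (Fl i).subtype).baseChange K) := fun u i v hv => by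
    obtain ⟨t, ht⟩ := hFl i v hv
    let cA : S ⊗[k] A := ComodSub.restrCoact (Comod.regular k A) S hS v
    have hcA : S.subtype.rTensor A cA = CoalgebraStruct.comul (R := k) (v : A) := ComodSub.rTensor_subtype_restrCoact _ _ _ v
    have hmap : ∀ z : S ⊗[k] A, swapEval (j u).ofConv (S.subtype.rTensor A z) =
        (S.subtype.baseChange K) (swapEval (evU u).ofConv (TensorProduct.map LinearMap.id (π : A →ₗ[k] B) z)) := by
      intro z
      induction z using TensorProduct.induction_on with
      | zero => simp
      | add x y hx hy => simp only [map_add, hx, hy]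
      | tmul x a =>
        rw [LinearMap.rTensor_tmul, swapEval_tmul, TensorProduct.map_tmul, swapEval_tmul, LinearMap.baseChange_tmul, hj]
        rfl
    rw [trans_one_tmul, ← hcA, hmap]
    have e1 : TensorProduct.map LinearMap.id (π : A →ₗ[k] B) cA =
        v ⊗ₜ[k] (1 : B) + (Fl i).subtype.rTensor B t := by
      rw [ht]
      show TensorProduct.map LinearMap.id (π : A →ₗ[k] B) cA =
        v ⊗ₜ[k] (1 : B) + (TensorProduct.map LinearMap.id (π : A →ₗ[k] B) cA - v ⊗ₜ[k] (1 : B))
      exact (add_sub_cancel _ _).symm
    rw [e1, map_add, map_add, swapEval_tmul, map_one, LinearMap.baseChange_tmul, Submodule.subtype_apply,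
      add_sub_cancel_left]
    clear e1 ht
    induction t using TensorProduct.induction_on with
    | zero => simp
    | add x y hx hy => simp only [map_add]; exact Submodule.add_mem _ hx hy
    | tmul x b => exact ⟨(evU u).ofConv b ⊗ₜ[k] x, rfl⟩
  have hnil : ∀ u, IsNilpotent (T u - 1) := by
    intro u
    let G : ℕ → Submodule K (K ⊗[k] A) := fun i => LinearMap.range ((S.subtype ∘ₗ (Fl i).subtype).baseChange K)
    have hG : ∀ i, ∀ z ∈ G (i + 1), trans (j u) z - z ∈ G i := by
      rintro i _ ⟨y, rfl⟩
      induction y using TensorProduct.induction_on with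
      | zero => simp
      | add x y hx hy =>
        simp only [map_add, add_sub_add_comm]
        exact Submodule.add_mem _ hx hy
      | tmul r x =>
        rw [LinearMap.baseChange_tmul, show r ⊗ₜ[k] (S.subtype ∘ₗ (Fl (i + 1)).subtype) x =
          r • ((1 : K) ⊗ₜ[k] ((x : S) : A)) by rw [TensorProduct.smul_tmul', smul_eq_mul, _root_.mul_one]; rfl,
          map_smul, ← smul_sub]
        exact Submodule.smul_mem _ _ (hstep u i _ x.2)
    have hpow : ∀ i, ∀ z : W, z.1 ∈ G i → ((T u - 1) ^ i) z = 0 := by
      intro i
      induction i with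
      | zero =>
        rintro z ⟨y, hy⟩
        show z = 0
        apply Subtype.ext
        rw [← hy]
        clear hy
        induction y using TensorProduct.induction_on with
        | zero => simp
        | add x y hx hy' => simp only [map_add, hx, hy']; exact add_zero _
        | tmul r x =>
          have h2 : (x : S) = 0 := (Submodule.mem_bot k).1 (hFl0.le x.2)
          have : x = 0 := Subtype.ext h2
          simp [this]
      | succ i ih =>
        intro z hz
        rw [pow_succ, Module.End.mul_apply]
        exact ih _ (hG i z.1 hz)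
    refine ⟨Module.finrank k S, LinearMap.ext fun z => hpow _ z ?_⟩
    obtain ⟨y, hy⟩ := z.2
    rw [← hy]
    clear hy
    induction y using TensorProduct.induction_on with
    | zero => simp
    | add x y hx hy =>
      simp only [map_add]
      exact Submodule.add_mem _ hx hy
    | tmul r x => exact ⟨r ⊗ₜ[k] ⟨x, by rw [hFltop]; trivial⟩, rfl⟩
  obtain ⟨b, hbφ, hbT⟩ := exists_flag_basis (p := p) (e := e) hq hθs T hnil φ
    (fun r z => Subtype.ext (by
      show trans c' (coeffMap A F (r • z.1)) = r ^ p ^ e • trans c' (coeffMap A F z.1)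
      rw [coeffMap_smul, map_smul, hF]))
    (fun x y h => Subtype.ext (hFinj (hc'inj (congrArg Subtype.val h)))) hφT
  -- matrix entries are regular functions
  let n := Module.finrank K W
  let M : U → Matrix (Fin n) (Fin n) K := fun u => Matrix.of fun l i => b.repr (T u (b i)) l
  let ev : U ≃ (K ⊗[k] B →ₐ[K] K) :=
    (evU.trans (WithConv.equiv _)).trans
      { toFun := fun g => Algebra.TensorProduct.lift (Algebra.ofId K K) g (fun _ _ => .all ..)
        invFun := fun g => (g.restrictScalars k).comp Algebra.TensorProduct.includeRight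
        left_inv := fun g => AlgHom.ext fun x => by simp
        right_inv := fun g => Algebra.TensorProduct.ext (AlgHom.ext fun x => by
          simp [Algebra.ofId_apply]
          exact (g.commutes x).symm) (AlgHom.ext fun x => by simp) }
  have hev : ∀ u (r : K) (x : B), ev u (r ⊗ₜ[k] x) = r * (evU u).ofConv x := fun u r x =>
    Algebra.TensorProduct.lift_tmul (Algebra.ofId K K) (evU u).ofConv (fun _ _ => .all ..) r x
  have hentry : ∀ l i, ∃ a : K ⊗[k] B, ∀ u, M u l i = ev u a := by
    intro l i
    obtain ⟨ℓ, hℓ⟩ := LinearMap.exists_extend (b.coord l)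
    let Λ₀ : A ⊗[k] A →ₗ[k] K ⊗[k] B :=
      TensorProduct.map (ℓ.restrictScalars k ∘ₗ TensorProduct.mk k K A 1) (π : A →ₗ[k] B)
    let Λ : K ⊗[k] A →ₗ[K] K ⊗[k] B := (Λ₀ ∘ₗ CoalgebraStruct.comul (R := k) (A := A)).liftBaseChange K
    have hΛ : ∀ u z, ℓ (trans (j u) z) = ev u (Λ z) := by
      intro u z
      induction z using TensorProduct.induction_on with
      | zero => simp
      | add x y hx hy => simp only [map_add, hx, hy]
      | tmul r a =>
        rw [trans_tmul, LinearMap.liftBaseChange_tmul, map_smul, map_smul]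
        congr 1
        show _ = ev u (Λ₀ (CoalgebraStruct.comul (R := k) a))
        generalize CoalgebraStruct.comul (R := k) a = t
        induction t using TensorProduct.induction_on with
        | zero => simp
        | add x y hx hy => simp only [map_add, hx, hy]
        | tmul x y =>
          rw [swapEval_tmul, show (j u).ofConv y ⊗ₜ[k] x = (j u).ofConv y • ((1 : K) ⊗ₜ[k] x) by
            rw [TensorProduct.smul_tmul', smul_eq_mul, _root_.mul_one], map_smul, hj, TensorProduct.map_tmul, hev,
            smul_eq_mul, _root_.mul_comm]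
          rfl
    refine ⟨Λ (b i).1, fun u => ?_⟩
    rw [← hΛ]
    show b.repr (T u (b i)) l = ℓ (T u (b i)).1
    exact (LinearMap.congr_fun hℓ (T u (b i))).symm
  choose a ha using hentry
  have hTrepr : ∀ u i, T u (b i) = ∑ m, M u m i • b m := fun u i => (b.sum_repr _).symm
  have hMinj : Function.Injective M := fun u v h => by
    have hT : T u = T v := b.ext fun i => by rw [hTrepr, hTrepr, h]
    have hjj : j u = j v := by
      apply ofConv_injective
      refine AlgHom.ext_of_adjoin_eq_top hs fun x hx => ?_
      have h2 : trans (j u) ((1 : K) ⊗ₜ[k] x) = trans (j v) ((1 : K) ⊗ₜ[k] x) :=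
        congrArg Subtype.val (LinearMap.congr_fun hT ⟨_, hWmem x (hsS hx)⟩)
      let εK : K ⊗[k] A →ₗ[K] K := ((Algebra.linearMap k K) ∘ₗ CoalgebraStruct.counit (R := k) (A := A)).liftBaseChange K
      have hε : ∀ g : Pt k A K, εK (trans g ((1 : K) ⊗ₜ[k] x)) = g.ofConv x := fun g => by
        rw [trans_one_tmul]
        conv_rhs => rw [show x = TensorProduct.lid k A ((CoalgebraStruct.counit (R := k) (A := A)).rTensor A
          (CoalgebraStruct.comul (R := k) x)) by rw [Coalgebra.rTensor_counit_comul, TensorProduct.lid_tmul, one_smul]]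
        generalize CoalgebraStruct.comul (R := k) x = t
        induction t using TensorProduct.induction_on with
        | zero => simp
        | add p q hp hq => simp only [map_add, hp, hq]
        | tmul p q =>
          rw [swapEval_tmul, LinearMap.liftBaseChange_tmul, LinearMap.rTensor_tmul, TensorProduct.lid_tmul, map_smul]
          simp [Algebra.smul_def, _root_.mul_comm]
      rw [← hε, ← hε, h2]
    apply evU.injective
    apply ofConv_injective
    refine AlgHom.ext fun y => ?_
    obtain ⟨x, rfl⟩ := hπ y
    rw [← hj, ← hj, hjj]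
  have hfix' : Nat.card {x : K // x ^ p ^ e = x} = p ^ e := by
    have hne : (Polynomial.X ^ (p ^ e) - Polynomial.X : Polynomial K) ≠ 0 := FiniteField.X_pow_card_sub_X_ne_zero K (by omega)
    have hsep : (Polynomial.X ^ (p ^ e) - Polynomial.X : Polynomial K).Separable :=
      galois_poly_separable p _ (dvd_pow_self p (fun h => by rw [h, pow_zero] at hq; omega))
    rw [← Nat.card_congr (Equiv.subtypeEquivRight (p := fun x => x ∈ (Polynomial.X ^ (p ^ e) - Polynomial.X : Polynomial K).roots.toFinset)
        (q := fun x : K => x ^ p ^ e = x) fun x => by simp [Polynomial.mem_roots hne, sub_eq_zero]),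
      Nat.card_eq_fintype_card, Fintype.card_coe, Multiset.toFinset_card_of_nodup (Polynomial.nodup_roots hsep),
      ← (IsAlgClosed.splits _).natDegree_eq_card_roots, FiniteField.X_pow_card_sub_X_natDegree_eq K (by omega)]
  have hmul' : ∀ u v, M (u * v) = M u * M v := by
    intro u v
    ext l i
    show b.repr (T (u * v) (b i)) l = _
    rw [Matrix.mul_apply, map_mul, Module.End.mul_apply, hTrepr v i, map_sum, map_sum, Finsupp.finsetSum_apply]
    refine Finset.sum_congr rfl fun m _ => ?_
    rw [map_smul, map_smul, Finsupp.smul_apply, smul_eq_mul, _root_.mul_comm]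
    rfl
  have hone' : M 1 = 1 := by
    ext l i
    show b.repr (T 1 (b i)) l = _
    rw [map_one, Module.End.one_apply, b.repr_self, Finsupp.single_apply, Matrix.one_apply]
    simp [eq_comm]
  have hθ' : ∀ u l i, M (θ u) l i = M u l i ^ p ^ e := by
    intro u l i
    show b.repr (T (θ u) (b i)) l = M u l i ^ p ^ e
    have h1 : T (θ u) (b i) = ∑ m, M u m i ^ p ^ e • b m := by
      conv_lhs => rw [← hbφ i]
      rw [← hφT, hTrepr, map_sum]
      refine Finset.sum_congr rfl fun m _ => ?_
      apply Subtype.ext
      show trans c' (coeffMap A F (M u m i • (b m).1)) = M u m i ^ p ^ e • (b m).1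
      rw [coeffMap_smul, map_smul, hF]
      exact congrArg _ (congrArg Subtype.val (hbφ m))
    rw [h1, map_sum, Finsupp.finsetSum_apply, Finset.sum_eq_single l]
    · simp
    · intro m _ hm
      simp [Finsupp.single_eq_of_ne' hm]
    · simp
  obtain ⟨e', -, he', hdim⟩ := card_fixed_unitriangular θ (p ^ e) (fun x y => add_pow_char_pow (p := p) (n := e) x y)
    hfix' (by omega) (fun x => exists_root hq x) hfin ev n M a (fun u l i => ha l i u) hMinj hmul' hone'
    (fun u i l h => hbT u i l h) hθ'
  rw [he' hlang, Nat.cast_inj.1 (show (e' : ℕ∞) = (d : ℕ∞) from WithBot.coe_injective (hdim.symm.trans hd))]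

end Groth.Agent.UnipCount19
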