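import Groth.Agent.UnipCount19.Rep
import Groth.Agent.HopfQuot.BaseChangePrim

/-! The mass of twisted conjugation on a connected unipotent subgroup of the geometric group. -/

set_option autoImplicit false
set_option linter.style.haveILetI false
set_option linter.unusedSectionVars false
set_option maxHeartbeats 1000000

universe u

open TensorProduct WithConv HopfRep Groth.Agent.HopfLib Groth.Agent.HopfQuot MulAction Groth.Agent.Stk19b.Count

noncomputable section

namespace Groth.Agent.UnipCount19

variable {k : Type u} [Field k] {A : Type u} [CommRing A] [HopfAlgebra k A] {K : Type u} [Field K] [Algebra k K]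

/-- The extension of a point to the base change. -/
def evK (g : Pt k A K) : K ⊗[k] A →ₐ[K] K :=
  Algebra.TensorProduct.lift (Algebra.ofId K K) g.ofConv (fun _ _ => .all ..)

@[simp] theorem evK_tmul (g : Pt k A K) (r : K) (x : A) : evK g (r ⊗ₜ[k] x) = r * g.ofConv x :=
  Algebra.TensorProduct.lift_tmul (Algebra.ofId K K) g.ofConv (fun _ _ => .all ..) r x

theorem evK_injective {g h : Pt k A K} (e : evK g = evK h) : g = h := by
  apply ofConv_injective
  refine AlgHom.ext fun x => ?_
  simpa using AlgHom.congr_fun e ((1 : K) ⊗ₜ[k] x)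

/-- Evaluation of the second factor. -/
def sliceEv (g : Pt k A K) : (K ⊗[k] A) ⊗[K] (K ⊗[k] A) →ₗ[K] K ⊗[k] A :=
  (TensorProduct.rid K (K ⊗[k] A)).toLinearMap ∘ₗ (evK g).toLinearMap.lTensor (K ⊗[k] A)

@[simp] theorem sliceEv_tmul (g : Pt k A K) (x y : K ⊗[k] A) : sliceEv g (x ⊗ₜ[K] y) = evK g y • x := rfl

theorem trans_eq_sliceEv (g : Pt k A K) (z : K ⊗[k] A) :
    trans g z = sliceEv g (CoalgebraStruct.comul (R := K) z) := by
  induction z using TensorProduct.induction_on with
  | zero => simp
  | add x y hx hy => simp only [map_add, hx, hy]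
  | tmul c a =>
    rw [show c ⊗ₜ[k] a = c • ((1 : K) ⊗ₜ[k] a) by rw [TensorProduct.smul_tmul', smul_eq_mul, _root_.mul_one],
      map_smul, map_smul, map_smul, trans_one_tmul, comul_one_tmul]
    congr 1
    generalize CoalgebraStruct.comul (R := k) a = t
    induction t using TensorProduct.induction_on with
    | zero => simp
    | add x y hx hy => simp only [map_add, hx, hy]
    | tmul x b =>
      rw [swapEval_tmul, incl₂_tmul, sliceEv_tmul, evK_tmul, _root_.one_mul, TensorProduct.smul_tmul', smul_eq_mul,
        _root_.mul_one]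

variable [IsAlgClosed K] {B : Type u} [CommRing B] [HopfAlgebra K B]

/-- Twisted fixed points of a connected unipotent subgroup. -/
theorem mass_twisted_unipotent {p e : ℕ} [Fact p.Prime] [CharP K p] (hq : 2 ≤ p ^ e)
    (F : K →ₐ[k] K) (hF : ∀ x, F x = x ^ p ^ e)
    [Algebra.FiniteType k A] [Algebra.FiniteType K B] (π : K ⊗[k] A →ₐc[K] B) (hπ : Function.Surjective π)
    (hB : HopfRep.IsUnipotent K B) [IsDomain B] (d : ℕ) (hd : ringKrullDim B = (d : WithBot ℕ∞))
    {U : Type u} [Group U] (evU : U ≃ Pt K B K) (j : U →* Pt k A K)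
    (hj : ∀ u z, evK (j u) z = (evU u).ofConv (π z))
    (θ : U →* U) (hθs : Function.Surjective θ) (c : Pt k A K) (c' : Pt k A K) (hc : c * c' = 1)
    (hθ : ∀ u, j (θ u) = c' * toConv (F.comp (j u).ofConv) * c)
    (hfin : ∀ a : U, Finite {g : U // θ g * a * g⁻¹ = a}) (hT : Inv θ (⊤ : Subgroup U)) :
    HasMass hT ((((p ^ e : ℕ) : ℚ) ^ d)⁻¹) := by
  classical
  obtain ⟨s, hs⟩ := (Algebra.FiniteType.out : (⊤ : Subalgebra k A).FG)
  obtain ⟨S, hSfin, hsS, hS⟩ := exists_finite_subcomod (k := k) (A := A) (V := A) (s : Set A) s.finite_toSet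
  haveI := hSfin
  let W : Submodule K (K ⊗[k] A) := LinearMap.range (S.subtype.baseChange K)
  have hWmem : ∀ v ∈ S, (1 : K) ⊗ₜ[k] v ∈ W := fun v hv => ⟨(1 : K) ⊗ₜ[k] ⟨v, hv⟩, rfl⟩
  have htrS : ∀ (g : Pt k A K), ∀ v ∈ S, trans g ((1 : K) ⊗ₜ[k] v) ∈ W := fun g v hv => by
    obtain ⟨t, ht⟩ := hS v hv
    rw [trans_one_tmul, show CoalgebraStruct.comul (R := k) v = Comod.coact (k := k) (A := A) v from rfl, ← ht]
    clear ht
    induction t using TensorProduct.induction_on with
    | zero => simp
    | add x y hx hy => simp only [map_add]; exact W.add_mem hx hy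
    | tmul x b =>
      rw [LinearMap.rTensor_tmul, swapEval_tmul]
      exact ⟨g.ofConv b ⊗ₜ[k] x, rfl⟩
  have hWT : ∀ (g : Pt k A K), ∀ z ∈ W, trans g z ∈ W := by
    rintro g _ ⟨y, rfl⟩
    induction y using TensorProduct.induction_on with
    | zero => simp
    | add x y hx hy => simp only [map_add]; exact W.add_mem hx hy
    | tmul r v =>
      rw [LinearMap.baseChange_tmul, show r ⊗ₜ[k] S.subtype v = r • ((1 : K) ⊗ₜ[k] (v : A)) by
        rw [TensorProduct.smul_tmul', smul_eq_mul, _root_.mul_one]; rfl, map_smul]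
      exact W.smul_mem _ (htrS g v v.2)
  have hWφ : ∀ z ∈ W, coeffMap A F z ∈ W := by
    rintro _ ⟨y, rfl⟩
    induction y using TensorProduct.induction_on with
    | zero => simp
    | add x y hx hy => simp only [map_add]; exact W.add_mem hx hy
    | tmul r v => exact ⟨F r ⊗ₜ[k] v, rfl⟩
  let T : U →* Module.End K W :=
    { toFun := fun u => (trans (j u)).restrict (hWT _)
      map_one' := LinearMap.ext fun z => Subtype.ext (by
        show trans (j 1) z.1 = z.1
        rw [map_one, trans_one]; rfl)
      map_mul' := fun u v => LinearMap.ext fun z => Subtype.ext (by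
        show trans (j (u * v)) z.1 = trans (j u) (trans (j v) z.1)
        rw [map_mul, trans_mul]; rfl) }
  let φ : W →+ W := AddMonoidHom.mk' (fun z => ⟨trans c' (coeffMap A F z.1), hWT _ _ (hWφ _ z.2)⟩)
    (fun x y => Subtype.ext (by
      show trans c' (coeffMap A F (x.1 + y.1)) = trans c' (coeffMap A F x.1) + trans c' (coeffMap A F y.1)
      rw [map_add, map_add]))
  have hFinj : Function.Injective (coeffMap A F) :=
    Module.Flat.rTensor_preserves_injective_linearMap F.toLinearMap F.toRingHom.injective
  have hc'inj : Function.Injective (trans c') := fun x y h => by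
    have h2 := congrArg (trans c) h
    rwa [← LinearMap.comp_apply, ← LinearMap.comp_apply, ← trans_mul, hc, trans_one] at h2
  have hφT : ∀ u z, φ (T u z) = T (θ u) (φ z) := fun u z => Subtype.ext (by
    show trans c' (coeffMap A F (trans (j u) z.1)) = trans (j (θ u)) (trans c' (coeffMap A F z.1))
    rw [coeffMap_trans, ← LinearMap.comp_apply (trans c'), ← LinearMap.comp_apply (trans (j (θ u))),
      ← trans_mul, ← trans_mul, hθ]
    congr 2
    rw [_root_.mul_assoc _ c c', hc, _root_.mul_one])
  -- unipotence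
  let πl : K ⊗[k] A →ₗ[K] B := (π : K ⊗[k] A →ₗ[K] B)
  let W' : Submodule K (K ⊗[k] A) := W
  have hWsub : IsSubcomod (k := K) (A := K ⊗[k] A) (V := K ⊗[k] A) W' := by
    rintro _ ⟨y, rfl⟩
    induction y using TensorProduct.induction_on with
    | zero => exact ⟨0, by simp⟩
    | add x y hx hy =>
      obtain ⟨t, ht⟩ := hx
      obtain ⟨t', ht'⟩ := hy
      exact ⟨t + t', by simp only [map_add, ht, ht']⟩
    | tmul r v =>
      obtain ⟨t, ht⟩ := hS v v.2
      let ψ : S ⊗[k] A →ₗ[k] W' ⊗[K] (K ⊗[k] A) :=
        TensorProduct.lift (LinearMap.mk₂ k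
          (fun (x : S) (b : A) => (⟨(1 : K) ⊗ₜ[k] (x : A), hWmem x x.2⟩ : W') ⊗ₜ[K] ((1 : K) ⊗ₜ[k] b))
          (fun x y b => by
            rw [← TensorProduct.add_tmul]
            congr 1
            exact Subtype.ext (TensorProduct.tmul_add _ _ _))
          (fun c x b => by
            rw [TensorProduct.smul_tmul']
            congr 1
            exact Subtype.ext (TensorProduct.tmul_smul c (1 : K) (x : A)))
          (fun x a b => by rw [TensorProduct.tmul_add, TensorProduct.tmul_add])
          (fun c x b => by rw [TensorProduct.tmul_smul, TensorProduct.tmul_smul]))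
      refine ⟨r • ψ t, ?_⟩
      rw [LinearMap.baseChange_tmul, show r ⊗ₜ[k] S.subtype v = r • ((1 : K) ⊗ₜ[k] (v : A)) by
        rw [TensorProduct.smul_tmul', smul_eq_mul, _root_.mul_one]; rfl, map_smul, map_smul]
      congr 1
      show _ = CoalgebraStruct.comul (R := K) ((1 : K) ⊗ₜ[k] (v : A))
      rw [comul_one_tmul, show CoalgebraStruct.comul (R := k) (v : A) = Comod.coact (k := k) (A := A) (v : A) from rfl, ← ht]
      clear ht
      induction t using TensorProduct.induction_on with
      | zero => simp
      | add x y hx hy => simp only [map_add, hx, hy]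
      | tmul x b => rfl
  let cW : HopfRep.Comod K (K ⊗[k] A) W' := ComodSub.Comod.restr (Comod.regular K (K ⊗[k] A)) W' hWsub
  let cB : HopfRep.Comod K B W' := GLin.comodAlong π cW
  obtain ⟨Fl, hFlmono, hFl0, hFltop, -, hFl⟩ :=
    @exists_flag_unipotent K _ B _ _ hB W' _ _ cB _
  have hstep : ∀ (u : U) (i : ℕ) (v : W'), v ∈ Fl (i + 1) →
      ∃ w ∈ Fl i, trans (j u) (v : K ⊗[k] A) - (v : K ⊗[k] A) = (w : K ⊗[k] A) := fun u i v hv => by
    obtain ⟨t, ht⟩ := hFl i v hv
    let ε : W' ⊗[K] B →ₗ[K] W' :=
      (TensorProduct.rid K W').toLinearMap ∘ₗ (evU u).ofConv.toLinearMap.lTensor W'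
    have hεt : ∀ (w : W') (z : B), ε (w ⊗ₜ[K] z) = (evU u).ofConv z • w := fun w z => rfl
    let cA : W' ⊗[K] (K ⊗[k] A) := ComodSub.restrCoact (Comod.regular K (K ⊗[k] A)) W' hWsub v
    have hcA : W'.subtype.rTensor (K ⊗[k] A) cA = CoalgebraStruct.comul (R := K) (v : K ⊗[k] A) :=
      ComodSub.rTensor_subtype_restrCoact _ _ _ v
    have hmap : ∀ z : W' ⊗[K] (K ⊗[k] A),
        (ε (TensorProduct.map LinearMap.id πl z) : K ⊗[k] A) =
          sliceEv (j u) (W'.subtype.rTensor (K ⊗[k] A) z) := by
      intro z
      induction z using TensorProduct.induction_on with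
      | zero => simp
      | add x y hx hy => simp only [map_add, Submodule.coe_add, hx, hy]
      | tmul x a =>
        rw [LinearMap.rTensor_tmul, TensorProduct.map_tmul, hεt, sliceEv_tmul, hj]
        rfl
    have h2 := congrArg ε ht
    refine ⟨ε ((Fl i).subtype.rTensor B t), ?_, ?_⟩
    · clear ht h2
      induction t using TensorProduct.induction_on with
      | zero => simp
      | add x y hx hy => simp only [map_add]; exact (Fl i).add_mem hx hy
      | tmul x z =>
        rw [LinearMap.rTensor_tmul, hεt]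
        exact (Fl i).smul_mem _ x.2
    · rw [trans_eq_sliceEv, ← hcA, ← hmap]
      rw [h2]
      show _ = ((ε (TensorProduct.map LinearMap.id πl cA - v ⊗ₜ[K] (1 : B))) : K ⊗[k] A)
      rw [map_sub, hεt, map_one, one_smul, Submodule.coe_sub]
  have hnil : ∀ u, IsNilpotent (T u - 1) := by
    intro u
    have hpow : ∀ i, ∀ z : W', z ∈ Fl i → ((T u - 1) ^ i) z = 0 := by
      intro i
      induction i with
      | zero =>
        intro z hz
        rw [hFl0, Submodule.mem_bot] at hz
        rw [hz, map_zero]
      | succ i ih =>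
        intro z hz
        rw [pow_succ, Module.End.mul_apply]
        refine ih _ ?_
        obtain ⟨w, hw, hwe⟩ := hstep u i z hz
        rw [show (T u - 1) z = w from Subtype.ext hwe]
        exact hw
    refine ⟨Module.finrank K W', LinearMap.ext fun z => hpow _ z ?_⟩
    rw [hFltop]
    trivial
  obtain ⟨b, hbφ, hbT⟩ := exists_flag_basis (p := p) (e := e) hq hθs T hnil φ
    (fun r z => Subtype.ext (by
      show trans c' (coeffMap A F (r • z.1)) = r ^ p ^ e • trans c' (coeffMap A F z.1)
      rw [coeffMap_smul, map_smul, hF]))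
    (fun x y h => Subtype.ext (hFinj (hc'inj (congrArg Subtype.val h)))) hφT
  -- matrix entries are regular functions
  let n := Module.finrank K W
  let M : U → Matrix (Fin n) (Fin n) K := fun u => Matrix.of fun l i => b.repr (T u (b i)) l
  let ev : U ≃ (B →ₐ[K] K) := evU.trans (WithConv.equiv _)
  have hentry : ∀ l i, ∃ a : B, ∀ u, M u l i = ev u a := by
    intro l i
    obtain ⟨ℓ, hℓ⟩ := LinearMap.exists_extend (b.coord l)
    let Λ : K ⊗[k] A →ₗ[K] B :=
      ((TensorProduct.lid K B).toLinearMap ∘ₗ TensorProduct.map ℓ (π : K ⊗[k] A →ₗ[K] B)) ∘ₗ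
        CoalgebraStruct.comul (R := K) (A := K ⊗[k] A)
    have hΛ : ∀ u z, ℓ (trans (j u) z) = ev u (Λ z) := by
      intro u z
      rw [trans_eq_sliceEv]
      show _ = ev u ((TensorProduct.lid K B) (TensorProduct.map ℓ (π : K ⊗[k] A →ₗ[K] B) _))
      generalize CoalgebraStruct.comul (R := K) z = t
      induction t using TensorProduct.induction_on with
      | zero => simp
      | add x y hx hy => simp only [map_add, hx, hy]
      | tmul x y =>
        rw [sliceEv_tmul, map_smul, hj, TensorProduct.map_tmul, TensorProduct.lid_tmul, map_smul,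
          smul_eq_mul, smul_eq_mul, _root_.mul_comm]
        rfl
    refine ⟨Λ (b i).1, fun u => ?_⟩
    rw [← hΛ]
    show b.repr (T u (b i)) l = ℓ (T u (b i)).1
    exact (LinearMap.congr_fun hℓ (T u (b i))).symm
  choose a ha using hentry
  have hTrepr : ∀ u i, T u (b i) = ∑ m, M u m i • b m := fun u i => (b.sum_repr _).symm
  have hMinj : Function.Injective M := fun u v h => by
    have hT : T u = T v := b.ext fun i => by rw [hTrepr, hTrepr, h]
    have hjj : j u = j v := by
      apply ofConv_injective
      refine AlgHom.ext_of_adjoin_eq_top hs fun x hx => ?_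
      have h2 : trans (j u) ((1 : K) ⊗ₜ[k] x) = trans (j v) ((1 : K) ⊗ₜ[k] x) :=
        congrArg Subtype.val (LinearMap.congr_fun hT ⟨_, hWmem x (hsS hx)⟩)
      let εK : K ⊗[k] A →ₗ[K] K := ((Algebra.linearMap k K) ∘ₗ CoalgebraStruct.counit (R := k) (A := A)).liftBaseChange K
      have hε : ∀ g : Pt k A K, εK (trans g ((1 : K) ⊗ₜ[k] x)) = g.ofConv x := fun g => by
        rw [trans_one_tmul]
        conv_rhs => rw [show x = TensorProduct.lid k A ((CoalgebraStruct.counit (R := k) (A := A)).rTensor A
          (CoalgebraStruct.comul (R := k) x)) by rw [Coalgebra.rTensor_counit_comul, TensorProduct.lid_tmul, one_smul]]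
        generalize CoalgebraStruct.comul (R := k) x = t
        induction t using TensorProduct.induction_on with
        | zero => simp
        | add p q hp hq => simp only [map_add, hp, hq]
        | tmul p q =>
          rw [swapEval_tmul, LinearMap.liftBaseChange_tmul, LinearMap.rTensor_tmul, TensorProduct.lid_tmul, map_smul]
          simp [Algebra.smul_def, _root_.mul_comm]
      rw [← hε, ← hε, h2]
    apply evU.injective
    apply ofConv_injective
    refine AlgHom.ext fun y => ?_
    obtain ⟨x, rfl⟩ := hπ y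
    rw [← hj, ← hj, hjj]
  have hfix' : Nat.card {x : K // x ^ p ^ e = x} = p ^ e := by
    have hne : (Polynomial.X ^ (p ^ e) - Polynomial.X : Polynomial K) ≠ 0 := FiniteField.X_pow_card_sub_X_ne_zero K (by omega)
    have hsep : (Polynomial.X ^ (p ^ e) - Polynomial.X : Polynomial K).Separable :=
      galois_poly_separable p _ (dvd_pow_self p (fun h => by rw [h, pow_zero] at hq; omega))
    rw [← Nat.card_congr (Equiv.subtypeEquivRight (p := fun x => x ∈ (Polynomial.X ^ (p ^ e) - Polynomial.X : Polynomial K).roots.toFinset)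
        (q := fun x : K => x ^ p ^ e = x) fun x => by simp [Polynomial.mem_roots hne, sub_eq_zero]),
      Nat.card_eq_fintype_card, Fintype.card_coe, Multiset.toFinset_card_of_nodup (Polynomial.nodup_roots hsep),
      ← (IsAlgClosed.splits _).natDegree_eq_card_roots, FiniteField.X_pow_card_sub_X_natDegree_eq K (by omega)]
  have hmul' : ∀ u v, M (u * v) = M u * M v := by
    intro u v
    ext l i
    show b.repr (T (u * v) (b i)) l = _
    rw [Matrix.mul_apply, map_mul, Module.End.mul_apply, hTrepr v i, map_sum, map_sum, Finsupp.finsetSum_apply]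
    refine Finset.sum_congr rfl fun m _ => ?_
    rw [map_smul, map_smul, Finsupp.smul_apply, smul_eq_mul, _root_.mul_comm]
    rfl
  have hone' : M 1 = 1 := by
    ext l i
    show b.repr (T 1 (b i)) l = _
    rw [map_one, Module.End.one_apply, b.repr_self, Finsupp.single_apply, Matrix.one_apply]
    simp [eq_comm]
  have hθ' : ∀ u l i, M (θ u) l i = M u l i ^ p ^ e := by
    intro u l i
    show b.repr (T (θ u) (b i)) l = M u l i ^ p ^ e
    have h1 : T (θ u) (b i) = ∑ m, M u m i ^ p ^ e • b m := by
      conv_lhs => rw [← hbφ i]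
      rw [← hφT, hTrepr, map_sum]
      refine Finset.sum_congr rfl fun m _ => ?_
      apply Subtype.ext
      show trans c' (coeffMap A F (M u m i • (b m).1)) = M u m i ^ p ^ e • (b m).1
      rw [coeffMap_smul, map_smul, hF]
      exact congrArg _ (congrArg Subtype.val (hbφ m))
    rw [h1, map_sum, Finsupp.finsetSum_apply, Finset.sum_eq_single l]
    · simp
    · intro m _ hm
      simp [Finsupp.single_eq_of_ne' hm]
    · simp
  obtain ⟨e', he', -, hdim⟩ := card_fixed_unitriangular θ (p ^ e) (fun x y => add_pow_char_pow (p := p) (n := e) x y)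
    hfix' (by omega) (fun x => exists_root hq x) hfin ev n M a (fun u l i => ha l i u) hMinj hmul' hone'
    (fun u i l h => hbT u i l h) hθ'
  have h := he' hT
  rwa [Nat.cast_inj.1 (show (e' : ℕ∞) = (d : ℕ∞) from WithBot.coe_injective (hdim.symm.trans hd))] at h

end Groth.Agent.UnipCount19
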